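import Mathlib

/-!
# Binary actions on cosets
-/

set_option autoImplicit false

namespace Cfsg.Agent.LocalEven64.SzBinary

variable {G : Type*} [Group G]

/-- The action on the cosets of `H` is binary. -/
def IsBinary (H : Subgroup G) : Prop :=
  ∀ (n : ℕ) (I J : Fin n → G ⧸ H), 2 ≤ n →
    (∀ i j : Fin n, i ≠ j → ∃ g : G, g • I i = J i ∧ g • I j = J j) → ∃ g : G, ∀ i, g • I i = J i

theorem smul_coset_eq {H : Subgroup G} {g a b : G} :
    g • (a : G ⧸ H) = (b : G ⧸ H) ↔ (g * a)⁻¹ * b ∈ H := by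
  rw [← QuotientGroup.eq]; rfl

theorem IsBinary.map {G' : Type*} [Group G'] {H : Subgroup G} (e : G ≃* G') (h : IsBinary H) :
    IsBinary (H.map e.toMonoidHom) := by
  intro n I J hn hp
  choose a ha using fun i => QuotientGroup.mk_surjective (I i)
  choose b hb using fun i => QuotientGroup.mk_surjective (J i)
  have key : ∀ (g : G') (i : Fin n), g • I i = J i ↔
      e.symm g • (((e.symm (a i)) : G) : G ⧸ H) = ((e.symm (b i) : G) : G ⧸ H) := fun g i => by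
    rw [← ha i, ← hb i, smul_coset_eq, smul_coset_eq, Subgroup.mem_map_equiv]
    simp
  obtain ⟨g, hg⟩ := h n (fun i => ((e.symm (a i) : G) : G ⧸ H))
    (fun i => ((e.symm (b i) : G) : G ⧸ H)) hn (fun i j hij => by
      obtain ⟨g, h1, h2⟩ := hp i j hij
      exact ⟨e.symm g, (key g i).1 h1, (key g j).1 h2⟩)
  exact ⟨e g, fun i => (key (e g) i).2 (by rw [e.symm_apply_apply]; exact hg i)⟩

theorem isBinary_map_iff {G' : Type*} [Group G'] {H : Subgroup G} (e : G ≃* G') :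
    IsBinary (H.map e.toMonoidHom) ↔ IsBinary H := by
  refine ⟨fun h => ?_, fun h => h.map e⟩
  have h2 := h.map e.symm
  rw [Subgroup.map_map, show e.symm.toMonoidHom.comp e.toMonoidHom = MonoidHom.id G by ext; simp,
    Subgroup.map_id] at h2
  exact h2

theorem not_binary_conj {H : Subgroup G} (c : G)
    (h : ¬ IsBinary (H.map (MulAut.conj c).toMonoidHom)) : ¬ IsBinary H :=
  fun hb => h (hb.map (MulAut.conj c))

/-- A witness on three points. -/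
theorem not_binary_of_triple {H : Subgroup G} {g₁ g₂ g₃ s t : G}
    (h1 : g₁⁻¹ * s * g₁ ∈ H) (h2 : g₂⁻¹ * t * g₂ ∈ H) (h3 : g₃⁻¹ * (s⁻¹ * t) * g₃ ∈ H)
    (h4 : ∀ d, g₁⁻¹ * d * g₁ ∈ H → g₂⁻¹ * d * g₂ ∈ H → g₃⁻¹ * (d⁻¹ * s) * g₃ ∉ H) :
    ¬ IsBinary H := by
  intro hb
  have fix : ∀ {g a : G}, g • (a : G ⧸ H) = (a : G ⧸ H) ↔ a⁻¹ * g * a ∈ H := by
    intro g a
    rw [smul_coset_eq, ← inv_mem_iff, show ((g * a)⁻¹ * a)⁻¹ = a⁻¹ * g * a by group]
  obtain ⟨d, hd⟩ := hb 3 ![(g₁ : G ⧸ H), g₂, g₃] ![(g₁ : G ⧸ H), g₂, ((s * g₃ : G) : G ⧸ H)]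
    (by norm_num) (by
    have ht : t • (g₃ : G ⧸ H) = ((s * g₃ : G) : G ⧸ H) := by
      rw [smul_coset_eq, ← inv_mem_iff]
      convert h3 using 1
      group
    intro i j hij
    fin_cases i <;> fin_cases j
    · exact absurd rfl hij
    · exact ⟨1, one_smul _ _, one_smul _ _⟩
    · exact ⟨s, fix.2 h1, rfl⟩
    · exact ⟨1, one_smul _ _, one_smul _ _⟩
    · exact absurd rfl hij
    · exact ⟨t, fix.2 h2, ht⟩
    · exact ⟨s, rfl, fix.2 h1⟩
    · exact ⟨t, ht, fix.2 h2⟩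
    · exact absurd rfl hij)
  refine h4 d (fix.1 (hd 0)) (fix.1 (hd 1)) ?_
  have h := hd 2
  change d • (g₃ : G ⧸ H) = ((s * g₃ : G) : G ⧸ H) at h
  rw [smul_coset_eq] at h
  convert h using 1
  group

/-- When stabilisers of two points with a product in a third stabiliser coincide. -/
theorem binary_of_prod {H : Subgroup G}
    (hP : ∀ g₁ g₂ g₃ x y : G, x ≠ 1 → y ≠ 1 → g₁⁻¹ * x * g₁ ∈ H → g₂⁻¹ * y * g₂ ∈ H →
      g₃⁻¹ * (x * y) * g₃ ∈ H → ∀ z, g₂⁻¹ * z * g₂ ∈ H → g₁⁻¹ * z * g₁ ∈ H) :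
    IsBinary H := by
  intro n I J hn hp
  choose a ha using fun i => QuotientGroup.mk_surjective (I i)
  have fix : ∀ (g : G) (i : Fin n), g • I i = I i ↔ (a i)⁻¹ * g * a i ∈ H := fun g i => by
    rw [← ha i, smul_coset_eq, ← inv_mem_iff,
      show ((g * a i)⁻¹ * a i)⁻¹ = (a i)⁻¹ * g * a i by group]
  let i₀ : Fin n := ⟨0, by omega⟩
  by_cases hall : ∀ (k : Fin n) (z : G), z • I i₀ = I i₀ → z • I k = I k
  · obtain ⟨g, hg, -⟩ := hp i₀ ⟨1, by omega⟩ (Fin.ne_of_val_ne Nat.zero_ne_one)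
    refine ⟨g, fun k => ?_⟩
    rcases eq_or_ne i₀ k with rfl | hk
    · exact hg
    obtain ⟨g', h1, h2⟩ := hp i₀ k hk
    have h3 := hall k (g⁻¹ * g') (by rw [mul_smul, h1, inv_smul_eq_iff, hg])
    rw [mul_smul, h2, inv_smul_eq_iff] at h3
    exact h3.symm
  · push Not at hall
    obtain ⟨j, z, hz0, hzj⟩ := hall
    have hj : i₀ ≠ j := fun e => hzj (e ▸ hz0)
    obtain ⟨g, hg0, hgj⟩ := hp i₀ j hj
    refine ⟨g, fun k => ?_⟩
    rcases eq_or_ne i₀ k with rfl | hk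
    · exact hg0
    rcases eq_or_ne j k with rfl | hjk
    · exact hgj
    obtain ⟨g₀, h01, h02⟩ := hp i₀ k hk
    obtain ⟨g₁, h11, h12⟩ := hp j k hjk
    by_contra hne
    have hs : (g⁻¹ * g₀) • I i₀ = I i₀ := by rw [mul_smul, h01, inv_smul_eq_iff, hg0]
    have ht : (g₁⁻¹ * g) • I j = I j := by rw [mul_smul, hgj, inv_smul_eq_iff, h11]
    have hst : ((g₁⁻¹ * g) * (g⁻¹ * g₀)) • I k = I k := by
      rw [show g₁⁻¹ * g * (g⁻¹ * g₀) = g₁⁻¹ * g₀ by group, mul_smul, h02, inv_smul_eq_iff, h12]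
    exact hzj ((fix z j).2 (hP (a j) (a i₀) (a k) (g₁⁻¹ * g) (g⁻¹ * g₀)
      (fun e => hne (by rw [← inv_mul_eq_one.1 e, h12]))
      (fun e => hne (by rw [inv_mul_eq_one.1 e, h02]))
      ((fix _ j).1 ht) ((fix _ i₀).1 hs) ((fix _ k).1 hst) z ((fix z i₀).1 hz0)))

theorem binary_bot : IsBinary (⊥ : Subgroup G) :=
  binary_of_prod fun g₁ _ _ x _ hx _ h1 _ _ _ _ => absurd (Subgroup.mem_bot.1 h1) fun e => hx (by
    rw [mul_assoc, inv_mul_eq_one, eq_comm, mul_eq_right] at e; exact e)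

end Cfsg.Agent.LocalEven64.SzBinary
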