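import Cfsg.Agent.LocalEven64.SzBinary.Torus

/-!
# The binary coset actions of the Suzuki groups
-/

set_option autoImplicit false

namespace Cfsg.Agent.LocalEven64.SzBinary

open Cfsg.Agent.Suzuki Cfsg.Agent.LocalEven64.SzSub

variable {F : Type*} [Field F] [Fintype F] {m : ℕ} (hF : Fintype.card F = 2 ^ (2 * m + 1))
include hF

local notation "∞'" => Cfsg.suzukiPointInfinity F
local notation "G" => Cfsg.Sz F m

omit hF [Fintype F] in
theorem map_conj_ne_bot {H : Subgroup G} (c : G) (h : H ≠ ⊥) :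
    H.map (MulAut.conj c).toMonoidHom ≠ ⊥ := fun e =>
  h ((Subgroup.map_eq_bot_iff_of_injective H (MulAut.conj c).injective).1 e)

omit hF [Fintype F] in
theorem not_conj_Z_map {Z H : Subgroup G} (c : G)
    (h : ∀ g : G, H ≠ Z.map (MulAut.conj g).toMonoidHom) (g : G) :
    H.map (MulAut.conj c).toMonoidHom ≠ Z.map (MulAut.conj g).toMonoidHom := fun e => h (c⁻¹ * g) (by
  rw [← map_conj_map, ← e, map_conj_map, inv_mul_cancel, map_one]
  exact (Subgroup.map_id H).symm)

theorem binary_ZSub (hm : 1 ≤ m) : IsBinary (ZSub hF) := by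
  refine binary_of_prod fun g₁ g₂ g₃ x y hx hy hx1 hy1 hxy => ?_
  have inv : ∀ (g z : G), g⁻¹ * z * g ∈ ZSub hF → z * z = 1 ∧ z • (g • ∞') = g • ∞' := by
    rintro g z ⟨b, hb⟩
    have e : z = g * U hF 0 b * g⁻¹ := by rw [← hb]; group
    refine ⟨?_, by rw [e, mul_smul, mul_smul, inv_smul_smul, U_smul_inf]⟩
    calc z * z = g * (U hF 0 b * U hF 0 b) * g⁻¹ := by rw [e]; group
      _ = 1 := by rw [U_zero_mul, add_self hF, U_zero, mul_one, mul_inv_cancel]
  obtain ⟨hxx, hxp⟩ := inv _ _ hx1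
  obtain ⟨hyy, hyp⟩ := inv _ _ hy1
  have hzz := (inv _ _ hxy).1
  have hcomm : x * y = y * x := by
    calc x * y = (x * y)⁻¹ := eq_inv_of_mul_eq_one_left hzz
      _ = y⁻¹ * x⁻¹ := _root_.mul_inv_rev _ _
      _ = y * x := by rw [inv_eq_of_mul_eq_one_right hxx, inv_eq_of_mul_eq_one_right hyy]
  have hxo : orderOf x = 2 := orderOf_eq_prime (by rw [sq, hxx]) hx
  have hyo : orderOf y = 2 := orderOf_eq_prime (by rw [sq, hyy]) hy
  have hyfix : y • (g₁ • ∞') = g₁ • ∞' :=
    fix_unique hF hm hxo (smul_mem_ovoid y (smul_mem_ovoid g₁ inf_mem_ovoid))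
      (smul_mem_ovoid g₁ inf_mem_ovoid) (by rw [← mul_smul, hcomm, mul_smul, hxp]) hxp
  have hp : g₁ • ∞' = g₂ • ∞' :=
    fix_unique hF hm hyo (smul_mem_ovoid g₁ inf_mem_ovoid) (smul_mem_ovoid g₂ inf_mem_ovoid) hyfix hyp
  obtain ⟨a, c, k, e⟩ := eq_U_T_of_fix hF hm (g₁⁻¹ * g₂) (by rw [mul_smul, ← hp, inv_smul_smul])
  rintro z ⟨b, hb⟩
  refine ⟨(mu m k : Fˣ) * b, ?_⟩
  rw [← stab_conj_U hF a c b k, ← e, ← hb]
  group

/-- A nontrivial subgroup fixing `∞`. -/
theorem not_binary_point (hm : 1 ≤ m) {H : Subgroup G} (hH : ∀ x ∈ H, x • ∞' = ∞') (h1 : H ≠ ⊥)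
    (hZ : H ≠ ZSub hF) : ¬ IsBinary H := by
  by_cases hk : ∃ a c k, k ≠ 1 ∧ U hF a c * T hF k ∈ H
  · obtain ⟨a, c, k, hk, hmem⟩ := hk
    obtain ⟨x, y, hxy⟩ := U_T_fix hF a c k hk
    set u := U hF x y
    refine not_binary_conj u⁻¹ ?_
    have hfix : ∀ z ∈ H.map (MulAut.conj u⁻¹).toMonoidHom, z • ∞' = ∞' := by
      intro z hz
      rw [mem_map_conj, inv_inv] at hz
      have := hH _ hz
      rwa [mul_smul, mul_smul, inv_smul_eq_iff.2 (U_smul_inf hF x y).symm, ← eq_inv_smul_iff,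
        inv_smul_eq_iff.2 (U_smul_inf hF x y).symm] at this
    have hmem' : u⁻¹ * (U hF a c * T hF k) * u ∈ H.map (MulAut.conj u⁻¹).toMonoidHom :=
      mem_map_conj.2 (by rw [inv_inv]; convert hmem using 1; group)
    obtain ⟨k', hk'⟩ := eq_T_of_fix hF hm _ (hfix _ hmem') (by
      rw [mul_smul, mul_smul, U_smul_zero, hxy, inv_smul_eq_iff, U_smul_zero])
    refine not_binary_point_T hF hm hfix (k := k') ?_ (hk' ▸ hmem')
    rintro rfl
    rw [T_one, mul_assoc, inv_mul_eq_one, eq_comm, mul_eq_right] at hk'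
    exact hk (U_T_inj hF (hk'.trans
      (show (1 : G) = U hF 0 0 * T hF 1 by rw [U_zero, T_one, one_mul]))).2.2
  push Not at hk
  have hU : ∀ x ∈ H, ∃ a b, x = U hF a b := by
    intro x hx
    obtain ⟨a, c, k, rfl⟩ := eq_U_T_of_fix hF hm x (hH x hx)
    obtain rfl : k = 1 := by_contra fun h => hk a c k h hx
    exact ⟨a, c, by rw [T_one, mul_one]⟩
  by_cases h4 : ∃ a b, a ≠ 0 ∧ U hF a b ∈ H
  · obtain ⟨a, b, ha, hmem⟩ := h4
    haveI : Fact (Nat.Prime 2) := ⟨Nat.prime_two⟩
    have hsq : U hF a b * U hF a b = U hF 0 (sig m a * a) := by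
      rw [U_mul, add_self hF, add_self hF, zero_add]
    have ho : orderOf (U hF a b) = 4 := by
      refine orderOf_eq_prime_pow (p := 2) (n := 1) ?_ ?_
      · rw [pow_one, sq, hsq]
        exact (U_ne_one_iff hF).2 (mul_ne_zero (sig_ne_zero ha) ha)
      · rw [show 2 ^ (1 + 1) = 2 * 2 by norm_num, pow_mul, sq, sq, hsq, U_zero_mul, add_self hF,
          U_zero]
    obtain ⟨c, hc⟩ := exists_U_one hF hm ho
    obtain ⟨g₁, g₂, HT⟩ := exists_tori hF hm
    have hne := exists_two (F := F) (dvd_mul_right 2 2) HT.norm₁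
    have hcount := (torus_cent hF hm HT.fpf₁).card_four HT.norm₁ (order_four hF c)
      (conj_or_inv hF hm c) (not_isConj_inv hF hm c) hne
    obtain ⟨n, hnN, hn⟩ : ∃ n, n ∈ Subgroup.normalizer (Subgroup.centralizer {g₁} : Set G) ∧
        IsConj (U hF 1 c) n := by
      have hpos : 0 < Nat.card (Subgroup.centralizer ({g₁} : Set G)) := Nat.card_pos
      rw [← hcount] at hpos
      obtain ⟨⟨n, hn⟩⟩ := (Nat.card_pos_iff.1 hpos).1
      exact ⟨n, hn⟩
    obtain ⟨s, hs⟩ := isConj_iff.1 (hc.symm.trans hn)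
    refine not_binary_conj s (not_binary_four hF hm HT.fpf₁ (p := s • ∞')
      (smul_mem_ovoid s inf_mem_ovoid) (fun x hx => ?_) (fun x hx hx1 r hr hxr => ?_) (n := n)
      (mem_map_conj.2 (by rw [← hs]; convert hmem using 1; group))
      (by rw [← hs, Torus.orderOf_conj', ho]) hnN)
    · have := hH _ (mem_map_conj.1 hx)
      rwa [mul_smul, mul_smul, inv_smul_eq_iff] at this
    · obtain ⟨a', b', e⟩ := hU _ (mem_map_conj.1 hx)
      have h2 : U hF a' b' • (s⁻¹ • r) = s⁻¹ • r := by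
        rw [← e, mul_smul, mul_smul, smul_inv_smul, hxr]
      rcases U_fix hF (smul_mem_ovoid s⁻¹ hr) h2 with h3 | h3
      · rw [← h3, smul_inv_smul]
      · rw [h3, mul_assoc, inv_mul_eq_one, eq_comm, mul_eq_right] at e
        exact absurd e hx1
  push Not at h4
  refine not_binary_center hF (fun x hx => ?_) h1 hZ
  obtain ⟨a, b, rfl⟩ := hU x hx
  obtain rfl : a = 0 := by_contra fun ha => h4 a b ha hx
  exact ⟨b, rfl⟩

theorem not_binary (hm : 1 ≤ m) {H : Subgroup G} (hH : H ≠ ⊤) (h1 : H ≠ ⊥)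
    (hZ : ∀ g : G, H ≠ (ZSub hF).map (MulAut.conj g).toMonoidHom) : ¬ IsBinary H := by
  classical
  have point : ∀ (H' : Subgroup G), H' ≠ ⊥ →
      (∀ g : G, H' ≠ (ZSub hF).map (MulAut.conj g).toMonoidHom) →
      ∀ g : G, (∀ x ∈ H', x • (g • ∞') = g • ∞') → ¬ IsBinary H' := by
    intro H' h1' hZ' g hg
    refine not_binary_conj g⁻¹ (not_binary_point hF hm (fun x hx => ?_) (map_conj_ne_bot g⁻¹ h1')
      fun e => not_conj_Z_map g⁻¹ hZ' 1 (e.trans (by rw [map_one]; exact (Subgroup.map_id _).symm)))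
    rw [mem_map_conj, inv_inv] at hx
    have := hg _ hx
    rwa [mul_smul, mul_smul, inv_smul_smul, smul_left_cancel_iff] at this
  by_cases hs : Group.IsSolvable H
  · rcases solvable_cases hF hm H with ⟨g, hg⟩ | ⟨g, hg⟩ | ⟨g, hg, hle⟩
    · exact point H h1 hZ g hg
    · refine not_binary_conj g⁻¹ ?_
      set H' := H.map (MulAut.conj g⁻¹).toMonoidHom with hH'
      have hle : H' ≤ Subgroup.normalizer ((THom hF).range : Set G) := fun x hx => by
        rw [hH', mem_map_conj, inv_inv] at hx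
        have := hg _ hx
        convert this using 1
        group
      by_cases hk : ∃ k, k ≠ 1 ∧ T hF k ∈ H'
      · obtain ⟨k, hk, hkH⟩ := hk
        exact not_binary_normalizer_T hF hm hle hk hkH
      push Not at hk
      have hsq : ∀ x ∈ H', x * x = 1 := by
        intro x hx
        obtain ⟨k₀, hk0, hk1⟩ := exists_ne_zero_one hF hm
        have hk₀ : Units.mk0 k₀ hk0 ≠ 1 := fun h => hk1 (congrArg Units.val h)
        obtain ⟨k', e⟩ := (Subgroup.mem_normalizer_iff.1 (hle hx) _).1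
          (⟨_, rfl⟩ : T hF (Units.mk0 k₀ hk0) ∈ (THom hF).range)
        rcases swap_of_conj_T hF hm (k' := k') hk₀ e.symm with ⟨l, rfl⟩ | ⟨l, rfl⟩
        · obtain rfl : l = 1 := by_contra fun h => hk l h hx
          rw [T_one, one_mul]
        · calc W hF * T hF l * (W hF * T hF l) = (W hF * T hF l * W hF) * T hF l := by group
            _ = 1 := by rw [W_conj_T, ← T_mul, inv_mul_cancel, T_one]
      obtain ⟨x, hx, hx1⟩ :=
        (Subgroup.bot_or_exists_ne_one H').resolve_left (map_conj_ne_bot g⁻¹ h1)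
      have hxo : orderOf x = 2 := orderOf_eq_prime (by rw [sq, hsq x hx]) hx1
      obtain ⟨p, hp, hxp⟩ := exists_fix hF hm hxo
      obtain ⟨h, rfl⟩ := exists_smul_inf hF p hp
      refine point H' (map_conj_ne_bot g⁻¹ h1) (not_conj_Z_map g⁻¹ hZ) h fun y hy => ?_
      refine fix_unique hF hm hxo (smul_mem_ovoid y hp) hp ?_ hxp
      have hc : x * y = y * x := by
        calc x * y = (x * y)⁻¹ := eq_inv_of_mul_eq_one_left (hsq _ (mul_mem hx hy))
          _ = y⁻¹ * x⁻¹ := _root_.mul_inv_rev _ _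
          _ = y * x := by
            rw [inv_eq_of_mul_eq_one_right (hsq x hx), inv_eq_of_mul_eq_one_right (hsq y hy)]
      rw [← mul_smul, hc, mul_smul, hxp]
    · by_cases hi : ∃ i ∈ H, orderOf i = 2
      · obtain ⟨i, hiH, hio⟩ := hi
        obtain ⟨c, hc⟩ := isConj_iff.1 (isConj_involution hF hm (one_ne_zero (α := F)) hio)
        refine not_binary_conj c⁻¹ (not_binary_torus_inv hF hm (fpf_conj hg c⁻¹) (fun x hx => ?_) ?_)
        · rw [mem_map_conj, inv_inv] at hx
          rw [mem_norm_conj, inv_inv]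
          exact hle (by simpa [inv_inv] using hx)
        · rw [mem_map_conj, inv_inv]
          convert hiH using 1
      · push Not at hi
        refine not_binary_torus hF hm hg (fun x hx => ?_) h1
        obtain ⟨w, hw4, hw⟩ := card_torus_normalizer hF hm hg
        refine mem_of_odd_order hw4 hw (hle hx) ?_
        rw [← Nat.not_even_iff_odd]
        intro hev
        obtain ⟨e, he⟩ := hev.two_dvd
        have hepos : 0 < e := by have := orderOf_pos x; omega
        refine hi (x ^ e) (pow_mem hx e) ?_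
        rw [orderOf_pow' _ hepos.ne', he, Nat.gcd_eq_right (dvd_mul_left e 2),
          Nat.mul_div_cancel _ hepos]
  · obtain ⟨j, g, hj, hd, hcard, hW, hU, hT⟩ := nonsolvable_conj hF hm H hs
    have hjm : j < m := by
      have hle : 2 * j + 1 ≤ 2 * m + 1 := Nat.le_of_dvd (by omega) hd
      rcases Nat.lt_or_ge j m with h | h
      · exact h
      · exfalso
        obtain rfl : j = m := by omega
        exact hH (Subgroup.eq_top_of_card_eq H (hcard.trans (card_Sz hF hm).symm))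
    haveI := Fintype.ofFinite (GaloisField 2 (2 * j + 1))
    have hK : Fintype.card (GaloisField 2 (2 * j + 1)) = 2 ^ (2 * j + 1) := by
      rw [← Nat.card_eq_fintype_card, GaloisField.card 2 (2 * j + 1) (by omega)]
    obtain ⟨ι⟩ := exists_ringHom (K := GaloisField 2 (2 * j + 1)) hF hK hd
    refine not_binary_conj g ?_
    rw [eq_range hF hK hd ι hj (H.map (MulAut.conj g).toMonoidHom)
      (by rw [Subgroup.card_map_of_injective (MulAut.conj g).injective, hcard]) hW hU hT]
    exact not_binary_subfield hF hm hK hd hj hjm ι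

omit hF [Fintype F] in
theorem center_map_eq {A : Type*} [Group A] (P : Subgroup A) :
    (Subgroup.center P).map P.subtype = P ⊓ Subgroup.centralizer (P : Set A) := by
  ext x
  rw [Subgroup.mem_map, Subgroup.mem_inf, Subgroup.mem_centralizer_iff]
  constructor
  · rintro ⟨y, hy, rfl⟩
    exact ⟨y.2, fun z hz => congrArg Subtype.val (Subgroup.mem_center_iff.1 hy ⟨z, hz⟩)⟩
  · rintro ⟨hx, h⟩
    exact ⟨⟨x, hx⟩, Subgroup.mem_center_iff.2 fun z => Subtype.ext (h z z.2), rfl⟩

theorem sylow_center_iff (hm : 1 ≤ m) (H : Subgroup G) :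
    (∃ P : Sylow 2 G, H = (Subgroup.center (P : Subgroup G)).map (P : Subgroup G).subtype) ↔
      ∃ g : G, H = (ZSub hF).map (MulAut.conj g).toMonoidHom := by
  haveI : Fact (Nat.Prime 2) := ⟨Nat.prime_two⟩
  let S := (isPGroup_USub hF).toSylow (index_USub_odd hF hm)
  have hS : (S : Subgroup G) = USub hF := IsPGroup.toSylow_coe _ _
  have hZ : ∀ g : G, ((USub hF).map (MulAut.conj g).toMonoidHom
      ⊓ Subgroup.centralizer ((USub hF).map (MulAut.conj g).toMonoidHom : Set G))
      = (ZSub hF).map (MulAut.conj g).toMonoidHom := by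
    intro g
    ext x
    rw [Subgroup.mem_inf, Subgroup.mem_centralizer_iff, mem_map_conj, mem_map_conj]
    have hc := center_USub hF hm
    constructor
    · rintro ⟨hx, h⟩
      have hz : (⟨g⁻¹ * x * g, hx⟩ : USub hF) ∈ Subgroup.center (USub hF) :=
        Subgroup.mem_center_iff.2 fun z => Subtype.ext (show (z : G) * (g⁻¹ * x * g) = g⁻¹ * x * g * z by
          have e := h (g * z * g⁻¹) (mem_map_conj.2 (by convert z.2 using 1; group))
          calc (z : G) * (g⁻¹ * x * g) = g⁻¹ * (g * z * g⁻¹ * x) * g := by group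
            _ = _ := by rw [e]; group)
      rw [hc, Subgroup.mem_subgroupOf] at hz
      exact hz
    · intro hx
      have hxU : g⁻¹ * x * g ∈ USub hF := by
        obtain ⟨b, hb⟩ := hx
        exact ⟨0, b, hb⟩
      refine ⟨hxU, fun y hy => ?_⟩
      have hy' := mem_map_conj.1 hy
      have hz : (⟨g⁻¹ * x * g, hxU⟩ : USub hF) ∈ Subgroup.center (USub hF) := by
        rw [hc, Subgroup.mem_subgroupOf]; exact hx
      have e : (g⁻¹ * y * g) * (g⁻¹ * x * g) = (g⁻¹ * x * g) * (g⁻¹ * y * g) :=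
        congrArg Subtype.val (Subgroup.mem_center_iff.1 hz ⟨_, hy'⟩)
      calc y * x = g * ((g⁻¹ * y * g) * (g⁻¹ * x * g)) * g⁻¹ := by group
        _ = _ := by rw [e]; group
  have hP : ∀ g : G, ((g • S : Sylow 2 G) : Subgroup G) = (USub hF).map (MulAut.conj g).toMonoidHom := by
    intro g
    rw [Sylow.coe_subgroup_smul, hS]
    rfl
  constructor
  · rintro ⟨P, rfl⟩
    obtain ⟨g, rfl⟩ := MulAction.exists_smul_eq G S P
    exact ⟨g, by rw [center_map_eq, hP, hZ]⟩
  · rintro ⟨g, rfl⟩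
    exact ⟨g • S, by rw [center_map_eq, hP, hZ]⟩

theorem binary_iff (hm : 1 ≤ m) {H : Subgroup G} (hH : H ≠ ⊤) :
    IsBinary H ↔ (H = ⊥ ∨ ∃ P : Sylow 2 G,
      H = (Subgroup.center (P : Subgroup G)).map (P : Subgroup G).subtype) := by
  rw [sylow_center_iff hF hm]
  constructor
  · intro hb
    by_contra hcon
    push Not at hcon
    exact not_binary hF hm hH hcon.1 hcon.2 hb
  · rintro (rfl | ⟨g, rfl⟩)
    · exact binary_bot
    · exact (binary_ZSub hF hm).map _

end Cfsg.Agent.LocalEven64.SzBinary
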