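import Mathlib

/-!
# Three multiples of a proper additive subgroup of a field of characteristic two
-/

set_option autoImplicit false

namespace Cfsg.Agent.LocalEven64.SzBinary

variable {F : Type*} [Field F] [Finite F]

/-- The conclusion: three multiples of `W` with a pair which cannot be corrected. -/
def ScaleWitness (W : Set F) : Prop :=
  ∃ a b c : F, a ≠ 0 ∧ b ≠ 0 ∧ c ≠ 0 ∧ ∃ s t : F, a⁻¹ * s ∈ W ∧ b⁻¹ * t ∈ W ∧ c⁻¹ * (s + t) ∈ W ∧
    ∀ d, a⁻¹ * d ∈ W → b⁻¹ * d ∈ W → c⁻¹ * (d + s) ∉ W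

/-- A subgroup meeting one of its multiples trivially. -/
theorem scale_small (W : AddSubgroup F) (hW : W ≠ ⊥)
    (hsmall : Nat.card W * Nat.card W ≤ Nat.card F) :
    ∃ b c : F, b ≠ 0 ∧ c ≠ 0 ∧ (∀ d ∈ W, b⁻¹ * d ∈ W → d = 0) ∧
      ∃ x y : F, x ∈ W ∧ b⁻¹ * y ∈ W ∧ c⁻¹ * (x + y) ∈ W ∧ c⁻¹ * x ∉ W := by
  classical
  haveI : Fintype F := Fintype.ofFinite F
  obtain ⟨x, hx, hx0⟩ : ∃ x ∈ W, x ≠ 0 := by
    rcases W.bot_or_exists_ne_zero with h | h
    · exact absurd h hW
    · exact h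
  obtain ⟨b, hb0, hb⟩ : ∃ b : F, b ≠ 0 ∧ ∀ d ∈ W, b⁻¹ * d ∈ W → d = 0 := by
    by_contra hcon
    push Not at hcon
    let S : Finset F := (Finset.univ.filter fun u => u ∈ W).erase 0
    have hsub : (Finset.univ : Finset F).erase 0 ⊆ (S ×ˢ S).image (fun p => p.1 / p.2) := by
      intro b hb
      obtain ⟨d, hd, hd', hd0⟩ := hcon b (Finset.mem_erase.1 hb).1
      have hb0 := (Finset.mem_erase.1 hb).1
      refine Finset.mem_image.2 ⟨(d, b⁻¹ * d), ?_, ?_⟩
      · simp [S, hd, hd', hd0, hb0]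
      · field_simp
    have h1 := (Finset.card_le_card hsub).trans Finset.card_image_le
    have hn : Nat.card W = (Finset.univ.filter fun u => u ∈ W).card := by
      rw [Nat.card_eq_fintype_card, Fintype.card_subtype]
    rw [Finset.card_product, Finset.card_erase_of_mem (Finset.mem_univ _), Finset.card_univ] at h1
    have hS : S.card = Nat.card W - 1 := by
      rw [Finset.card_erase_of_mem (by simp [zero_mem]), hn]
    rw [hS] at h1
    rw [Nat.card_eq_fintype_card (α := F)] at hsmall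
    obtain ⟨k, hk⟩ : ∃ k, Nat.card W = k + 2 := by
      haveI : Nontrivial W := ⟨⟨⟨x, hx⟩, 0, fun e => hx0 (congrArg Subtype.val e)⟩⟩
      have h2 : 1 < Nat.card W := Finite.one_lt_card
      exact ⟨Nat.card W - 2, by omega⟩
    rw [hk] at h1 hsmall
    simp only [Nat.add_sub_cancel_right, show k + 2 - 1 = k + 1 from rfl] at h1
    nlinarith [Nat.sub_add_cancel (Fintype.card_pos (α := F))]
  set y := b * x with hy
  have hyW : y ∉ W := fun h => mul_ne_zero hb0 hx0 (hb y h (by rw [hy, inv_mul_cancel_left₀ hb0]; exact hx))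
  have hxy : x + y ≠ 0 := fun h => hyW (by rw [eq_neg_of_add_eq_zero_right h]; exact neg_mem hx)
  obtain ⟨w, hw, hw'⟩ : ∃ w ∈ W, x / (x + y) * w ∉ W := by
    by_contra hcon
    push Not at hcon
    let f : W → W := fun w => ⟨x / (x + y) * w.1, hcon w.1 w.2⟩
    have hf : Function.Injective f := fun u v e => Subtype.ext
      (mul_left_cancel₀ (div_ne_zero hx0 hxy) (congrArg Subtype.val e))
    obtain ⟨u, hu⟩ := Finite.surjective_of_injective hf ⟨x, hx⟩
    have hu' : x / (x + y) * u.1 = x := congrArg Subtype.val hu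
    have : u.1 = x + y := by
      field_simp at hu'
      linear_combination hu'
    exact hyW ((add_mem_cancel_left hx).1 (this ▸ u.2))
  have hw0 : w ≠ 0 := fun h => hw' (by rw [h, mul_zero]; exact zero_mem W)
  refine ⟨b, (x + y) / w, hb0, div_ne_zero hxy hw0, hb, x, y, hx,
    by rw [hy, inv_mul_cancel_left₀ hb0]; exact hx, ?_, ?_⟩
  · rw [inv_div, div_mul_cancel₀ _ hxy]; exact hw
  · rwa [inv_div, div_mul_eq_mul_div, mul_comm w x, ← div_mul_eq_mul_div]

variable [CharP F 2]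

theorem scale_witness (W : AddSubgroup F) (hW : W ≠ ⊥) (hW' : W ≠ ⊤) :
    ScaleWitness (W : Set F) := by
  classical
  by_cases hsmall : Nat.card W * Nat.card W ≤ Nat.card F
  · obtain ⟨b, c, hb, hc, hbW, x, y, hx, hy, hxy, hxc⟩ := scale_small W hW hsmall
    refine ⟨1, b, c, one_ne_zero, hb, hc, x, y, by simpa using hx, hy, hxy, fun d hd hd' => ?_⟩
    rw [hbW d (by simpa using hd) hd', zero_add]
    exact hxc
  -- duality under the trace form
  letI := ZMod.algebra F 2
  haveI : Fintype F := Fintype.ofFinite F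
  set B := Algebra.traceForm (ZMod 2) F with hB
  have hnd : B.Nondegenerate := traceForm_nondegenerate (ZMod 2) F
  have hsym : B.IsRefl := (Algebra.traceForm_isSymm (R := ZMod 2) (S := F)).isRefl
  have hoo : ∀ S : Submodule (ZMod 2) F, B.orthogonal (B.orthogonal S) = S :=
    fun S => LinearMap.BilinForm.orthogonal_orthogonal hnd hsym S
  set V : Submodule (ZMod 2) F := W.toZModSubmodule 2 with hV
  have memV : ∀ {u : F}, u ∈ V ↔ u ∈ W := fun {u} => Iff.rfl
  set P : AddSubgroup F := (B.orthogonal V).toAddSubgroup with hP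
  have hsum := LinearMap.BilinForm.finrank_orthogonal (W := V) hnd
  have hcard : ∀ S : Submodule (ZMod 2) F, Nat.card S = 2 ^ Module.finrank (ZMod 2) S := fun S => by
    rw [Module.natCard_eq_pow_finrank (K := ZMod 2), Nat.card_zmod]
  have hPsmall : Nat.card P * Nat.card P ≤ Nat.card F := by
    have h1 : Nat.card P = 2 ^ Module.finrank (ZMod 2) (B.orthogonal V) := hcard _
    have h2 : Nat.card W = 2 ^ Module.finrank (ZMod 2) V := hcard V
    rw [h2, Module.natCard_eq_pow_finrank (K := ZMod 2) (V := F), Nat.card_zmod, ← pow_add,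
      Nat.pow_le_pow_iff_right (by norm_num), not_le] at hsmall
    rw [h1, Module.natCard_eq_pow_finrank (K := ZMod 2) (V := F), Nat.card_zmod, ← pow_add]
    refine Nat.pow_le_pow_right (by norm_num) ?_
    omega
  have hPne : P ≠ ⊥ := by
    intro h
    apply hW'
    have h1 : B.orthogonal V = ⊥ := by
      ext u
      rw [← Submodule.mem_toAddSubgroup, ← hP, h]
      simp
    have h2 : V = ⊤ := by
      rw [← hoo V, h1]
      ext u
      simp [LinearMap.BilinForm.mem_orthogonal_iff, LinearMap.BilinForm.IsOrtho]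
    ext u
    rw [← memV, h2]
    simp
  obtain ⟨b, c, hb, hc, hbP, x, y, hx, hy, hxy, hxc⟩ := scale_small P hPne hPsmall
  let mul : F → Submodule (ZMod 2) F → Submodule (ZMod 2) F := fun a S =>
    S.comap (LinearMap.mulLeft (ZMod 2) a⁻¹)
  have memm : ∀ a S u, u ∈ mul a S ↔ a⁻¹ * u ∈ S := fun a S u => Iff.rfl
  have hsc : ∀ a, a ≠ 0 → ∀ S, B.orthogonal (mul a S) = mul a⁻¹ (B.orthogonal S) := by
    intro a ha S
    ext u
    rw [memm, inv_inv, LinearMap.BilinForm.mem_orthogonal_iff,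
      LinearMap.BilinForm.mem_orthogonal_iff]
    simp only [LinearMap.BilinForm.IsOrtho, hB, Algebra.traceForm_apply]
    constructor
    · intro h v hv
      have := h (a * v) (by rw [memm, inv_mul_cancel_left₀ ha]; exact hv)
      rwa [mul_comm a v, mul_assoc] at this
    · intro h v hv
      rw [memm] at hv
      have := h _ hv
      rwa [mul_comm a⁻¹ v, mul_assoc, inv_mul_cancel_left₀ ha] at this
  set Pa := B.orthogonal V with hPa
  set Pb := mul b Pa with hPb
  set Pc := mul c Pa with hPc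
  have eA : B.orthogonal Pc = mul c⁻¹ V := by rw [hPc, hsc c hc, hPa, hoo]
  have eC : B.orthogonal Pb = mul b⁻¹ V := by rw [hPb, hsc b hb, hPa, hoo]
  have eB : B.orthogonal Pa = mul 1 V := by
    rw [hPa, hoo]; ext u; rw [memm, inv_one, one_mul]
  refine ⟨1, b⁻¹, c⁻¹, one_ne_zero, inv_ne_zero hb, inv_ne_zero hc, ?_⟩
  by_contra hcon
  push Not at hcon
  set A := B.orthogonal Pc with hAdef
  set B1 := B.orthogonal Pa with hBdef
  set C1 := B.orthogonal Pb with hCdef
  have hle : (A ⊔ B1) ⊓ (A ⊔ C1) ≤ A ⊔ B1 ⊓ C1 := by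
    intro z hz
    obtain ⟨hz1, hz2⟩ := Submodule.mem_inf.1 hz
    obtain ⟨a1, ha1, s, hs, e1⟩ := Submodule.mem_sup.1 hz1
    obtain ⟨a2, ha2, t, ht, e2⟩ := Submodule.mem_sup.1 hz2
    have hst : s + t ∈ A := by
      have : s + t = a2 - a1 + (t + t) := by linear_combination e1 - e2
      rw [this, CharTwo.add_self_eq_zero, add_zero]
      exact sub_mem ha2 ha1
    rw [eB, memm] at hs
    rw [eC, memm] at ht
    rw [eA, memm] at hst
    obtain ⟨d, hd1, hd2, hd3⟩ := hcon s t hs ht hst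
    refine Submodule.mem_sup.2 ⟨a1 + (d + s), ?_, d, Submodule.mem_inf.2 ⟨?_, ?_⟩, ?_⟩
    · refine add_mem ha1 ?_
      rw [eA, memm]
      exact hd3
    · rw [eB, memm]; exact hd1
    · rw [eC, memm]; exact hd2
    · linear_combination e1 + d * CharTwo.two_eq_zero (R := F)
  have orth_sup : ∀ S R, B.orthogonal (S ⊔ R) = B.orthogonal S ⊓ B.orthogonal R := by
    intro S R
    refine le_antisymm (le_inf (LinearMap.BilinForm.orthogonal_le le_sup_left)
      (LinearMap.BilinForm.orthogonal_le le_sup_right)) fun u hu => ?_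
    rw [LinearMap.BilinForm.mem_orthogonal_iff]
    intro v hv
    obtain ⟨v1, h1, v2, h2, rfl⟩ := Submodule.mem_sup.1 hv
    simp only [LinearMap.BilinForm.IsOrtho, map_add, LinearMap.add_apply]
    rw [show B v1 u = 0 from LinearMap.BilinForm.mem_orthogonal_iff.1 hu.1 v1 h1,
      show B v2 u = 0 from LinearMap.BilinForm.mem_orthogonal_iff.1 hu.2 v2 h2, add_zero]
  have key : Pc ⊓ (Pa ⊔ Pb) ≤ (Pc ⊓ Pa) ⊔ (Pc ⊓ Pb) := by
    have h1 : B.orthogonal (A ⊔ B1 ⊓ C1) = Pc ⊓ (Pa ⊔ Pb) := by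
      rw [orth_sup, hAdef, hoo, hBdef, hCdef, ← orth_sup, hoo]
    have h2 : B.orthogonal ((A ⊔ B1) ⊓ (A ⊔ C1)) = (Pc ⊓ Pa) ⊔ (Pc ⊓ Pb) := by
      rw [← hoo (A ⊔ B1), ← hoo (A ⊔ C1), ← orth_sup, hoo, orth_sup, orth_sup, hAdef, hBdef,
        hCdef, hoo, hoo, hoo]
    rw [← h1, ← h2]
    exact LinearMap.BilinForm.orthogonal_le hle
  obtain ⟨u, hu, v, hv, huv⟩ := Submodule.mem_sup.1 (key
    (Submodule.mem_inf.2 ⟨show x + y ∈ Pc from hxy,
      Submodule.mem_sup.2 ⟨x, hx, y, hy, rfl⟩⟩))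
  have h0 : x - u = 0 := hbP _ (sub_mem hx hu.2) (by
    change x - u ∈ Pb
    rw [show x - u = v - y by linear_combination -huv]
    exact sub_mem hv.2 hy)
  rw [sub_eq_zero] at h0
  exact hxc (h0 ▸ hu.1)

end Cfsg.Agent.LocalEven64.SzBinary
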