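import Cfsg.Agent.LocalEven64.SzBinary.Witness

/-!
# Suzuki groups: subgroups of the normalizers of the anisotropic tori
-/

set_option autoImplicit false

namespace Cfsg.Agent.LocalEven64.SzBinary

open Cfsg.Agent.Suzuki Cfsg.Agent.LocalEven64.SzSub

variable {F : Type*} [Field F] [Fintype F] {m : ℕ} (hF : Fintype.card F = 2 ^ (2 * m + 1))
include hF

local notation "∞'" => Cfsg.suzukiPointInfinity F
local notation "G" => Cfsg.Sz F m
omit hF [Fintype F] in
/-- The centralizer of an element. -/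
abbrev CX (g : G) : Subgroup G := Subgroup.centralizer ({g} : Set G)

omit hF [Fintype F] in
/-- The normalizer of the centralizer of an element. -/
abbrev NX (g : G) : Subgroup G := Subgroup.normalizer (CX g : Set G)

omit hF [Fintype F] in
theorem mem_norm_conj (h g a : G) : a ∈ NX (h * g * h⁻¹) ↔ h⁻¹ * a * h ∈ NX g := by
  rw [NX, CX, centralizer_conj, ← Subgroup.map_equiv_normalizer_eq]
  exact mem_map_conj

theorem pow_four_mem (hm : 1 ≤ m) {g a : G} (hg : Fpf g) (ha : a ∈ NX g) : a ^ 4 ∈ CX g := by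
  obtain ⟨w, hw4, hw⟩ := card_torus_normalizer hF hm hg
  set N := NX g
  set K := (CX g).subgroupOf N
  have hK : Nat.card K = Nat.card (CX g) :=
    Nat.card_congr (Subgroup.subgroupOfEquivOfLe (Subgroup.le_normalizer : CX g ≤ N)).toEquiv
  have hidx : K.index = w := by
    have h := K.index_mul_card
    rw [hK, hw, mul_comm] at h
    exact Nat.eq_of_mul_eq_mul_left Nat.card_pos h
  obtain ⟨d, hd⟩ := hw4
  have h1 : (⟨a, ha⟩ : N) ^ (w * d) ∈ K := by
    rw [pow_mul, ← hidx]
    exact pow_mem (Subgroup.pow_index_mem K _) d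
  rw [← hd] at h1
  exact Subgroup.mem_subgroupOf.1 h1

theorem eq_one_of_four (hm : 1 ≤ m) {g a : G} (hg : Fpf g) (ha : a ∈ CX g) (h : a ^ 4 = 1) :
    a = 1 := by
  refine (torus_cent hF hm hg).eq_one_of_sq ha
    ((torus_cent hF hm hg).eq_one_of_sq (mul_mem ha ha) ?_)
  rw [← h]
  simp only [pow_succ, pow_zero, one_mul, mul_assoc]

theorem eq_of_common (hm : 1 ≤ m) {g g' u : G} (hg : Fpf g) (hg' : Fpf g') (hu : u ∈ CX g)
    (hu' : u ∈ CX g') (hu1 : u ≠ 1) : CX g = CX g' :=
  ((torus_cent hF hm hg).cent u hu hu1).symm.trans ((torus_cent hF hm hg').cent u hu' hu1)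

/-- Two distinct commuting involutions do not lie in one normalizer. -/
theorem not_both (hm : 1 ≤ m) {g : G} (hg : Fpf g) {b b' : F} (hb : b ≠ 0) (hb' : b' ≠ 0)
    (hne : b ≠ b') (h1 : U hF 0 b ∈ NX g) (h2 : U hF 0 b' ∈ NX g) : False := by
  rcases (torus_cent hF hm hg).comm_two h1 (orderOf_U hF hb) h2
    (by rw [U_zero_mul, add_self hF, U_zero]) (by rw [U_zero_mul, U_zero_mul, add_comm]) with h | h
  · exact (U_ne_one_iff hF).2 hb' h
  · exact hne (U_inj hF h).2.symm

/-- A subgroup meeting the torus trivially has at most four elements. -/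
theorem card_le_four (hm : 1 ≤ m) {g : G} (hg : Fpf g) {S : Subgroup G} (hS : S ≤ NX g)
    (hd : ∀ a ∈ S, a ∈ CX g → a = 1) : Nat.card S ≤ 4 := by
  obtain ⟨w, hw4, hw⟩ := card_torus_normalizer hF hm hg
  have h : Nat.card (S × (CX g : Subgroup G)) ≤ Nat.card (NX g : Subgroup G) := by
    refine Nat.card_le_card_of_injective (fun p => (⟨(p.1 : G) * (p.2 : G),
      mul_mem (hS p.1.2) (Subgroup.le_normalizer p.2.2)⟩ : (NX g : Subgroup G))) ?_
    rintro ⟨s, c⟩ ⟨s', c'⟩ e
    have e' : (s : G) * (c : G) = (s' : G) * (c' : G) := congrArg Subtype.val e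
    have h1 : (s' : G)⁻¹ * s = (c' : G) * (c : G)⁻¹ := by
      calc (s' : G)⁻¹ * s = (s' : G)⁻¹ * ((s : G) * c) * (c : G)⁻¹ := by group
        _ = _ := by rw [e']; group
    have h2 : (s' : G)⁻¹ * s = 1 :=
      hd _ (mul_mem (inv_mem s'.2) s.2) (h1 ▸ mul_mem c'.2 (inv_mem c.2))
    rw [inv_mul_eq_one] at h2
    rw [← h2] at e'
    exact Prod.ext (Subtype.ext h2.symm) (Subtype.ext (mul_left_cancel e'))
  rw [Nat.card_prod, hw, mul_comm] at h
  exact (Nat.le_of_mul_le_mul_left h Nat.card_pos).trans (Nat.le_of_dvd (by norm_num) hw4)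

/-- A subgroup of the normalizer containing an involution. -/
theorem not_binary_torus_inv (hm : 1 ≤ m) {H : Subgroup G} {g : G} (hg : Fpf g)
    (hH : H ≤ NX g) (h1 : U hF 0 1 ∈ H) : ¬ IsBinary H := by
  classical
  intro hb
  obtain ⟨c, hc0, hc1⟩ := exists_ne_zero_one hF hm
  have h1c : (1 : F) + c ≠ 0 := fun h => hc1 (eq_of_add_eq_zero hF h).symm
  obtain ⟨y, hy⟩ := isConj_iff.1 (isConj_U_zero hF one_ne_zero hc0)
  obtain ⟨z, hz⟩ := isConj_iff.1 (isConj_U_zero hF one_ne_zero h1c)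
  set i := U hF 0 (1 : F) with hidef
  have hiN : i ∈ NX g := hH h1
  set t3 := z * g * z⁻¹ with ht3
  have hf3 : Fpf t3 := fpf_conj hg z
  have hkN : U hF 0 (1 + c) ∈ NX t3 :=
    (mem_norm_conj z g _).2 (by rw [← hz]; convert hiN using 1; group)
  set t2 : F → G := fun e => (U hF 0 e * y) * g * (U hF 0 e * y)⁻¹ with ht2
  have hf2 : ∀ e, Fpf (t2 e) := fun e => fpf_conj hg _
  have hyj : ∀ e, (U hF 0 e * y)⁻¹ * U hF 0 c * (U hF 0 e * y) = i := fun e => by
    calc (U hF 0 e * y)⁻¹ * U hF 0 c * (U hF 0 e * y)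
        = y⁻¹ * ((U hF 0 e)⁻¹ * (U hF 0 c * U hF 0 e)) * y := by group
      _ = y⁻¹ * U hF 0 c * y := by rw [U_zero_comm, inv_mul_cancel_left]
      _ = i := by rw [← hy]; group
  have hjN : ∀ e, U hF 0 c ∈ NX (t2 e) := fun e => (mem_norm_conj _ g _).2 (by rw [hyj]; exact hiN)
  have hi2 : ∀ e, i ∉ NX (t2 e) := fun e h =>
    not_both hF hm (hf2 e) one_ne_zero hc0 (Ne.symm hc1) h (hjN e)
  have hi3 : i ∉ NX t3 := fun h => not_both hF hm hf3 one_ne_zero h1c
    (fun e => hc0 (by linear_combination -e)) h hkN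
  have hj1 : U hF 0 c ∉ NX g := fun h => not_both hF hm hg one_ne_zero hc0 (Ne.symm hc1) hiN h
  have hk1 : U hF 0 (1 + c) ∉ NX g := fun h => not_both hF hm hg one_ne_zero h1c
    (fun e => hc0 (by linear_combination -e)) hiN h
  have hX := torus_cent hF hm hg
  have hii : orderOf i = 2 := orderOf_U hF one_ne_zero
  have hex : ∀ e, ∃ a : G, a ∈ NX g ∧ a ∈ NX t3 ∧ a ≠ 1 ∧ a ^ 4 = 1 ∧
      i * a⁻¹ ∈ NX g ∧ i * a⁻¹ ∈ NX (t2 e) ∧ orderOf ((i * a⁻¹) * (i * a⁻¹)) = 2 := by
    intro e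
    obtain ⟨d, hd1, hd2, hd3⟩ : ∃ d, d ∈ H ∧ (U hF 0 e * y)⁻¹ * d * (U hF 0 e * y) ∈ H ∧
        z⁻¹ * (d⁻¹ * i) * z ∈ H := by
      by_contra hcon
      push Not at hcon
      refine not_binary_of_triple (g₁ := 1) (g₂ := U hF 0 e * y) (g₃ := z) (s := i)
        (t := U hF 0 c) (by simpa using h1) (by rw [hyj]; exact h1) ?_
        (fun d hd hd' => hcon d (by simpa using hd) hd') hb
      rw [hidef, U_zero_inv, U_zero_mul, ← hz]
      convert h1 using 1
      group
    have hdN1 : d ∈ NX g := hH hd1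
    have hdN2 : d ∈ NX (t2 e) := (mem_norm_conj _ g _).2 (hH hd2)
    set a := d⁻¹ * i with ha
    have haN1 : a ∈ NX g := mul_mem (inv_mem hdN1) hiN
    have haN3 : a ∈ NX t3 := (mem_norm_conj _ g _).2 (hH hd3)
    have hda : i * a⁻¹ = d := by
      rw [ha, _root_.mul_inv_rev, inv_inv, mul_inv_cancel_left]
    have hd4 : d ^ 4 = 1 := by
      by_contra hne
      have e12 := eq_of_common hF hm hg (hf2 e) (pow_four_mem hF hm hg hdN1)
        (pow_four_mem hF hm (hf2 e) hdN2) hne
      exact hj1 (by have := hjN e; rwa [NX, ← e12] at this)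
    have ha4 : a ^ 4 = 1 := by
      by_contra hne
      have e13 := eq_of_common hF hm hg hf3 (pow_four_mem hF hm hg haN1)
        (pow_four_mem hF hm hf3 haN3) hne
      exact hk1 (by rwa [NX, ← e13] at hkN)
    have hdd : d * d ≠ 1 := by
      intro h
      rcases eq_or_ne d 1 with rfl | hd'
      · rw [ha, inv_one, one_mul] at haN3
        exact hi3 haN3
      · have haX : a ∈ CX g := by
          rw [ha, inv_eq_of_mul_eq_one_right h]
          exact hX.mul_mem_of_two hdN1 hiN (orderOf_eq_prime (by rw [sq, h]) hd') hii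
        have := eq_one_of_four hF hm hg haX ha4
        rw [ha, inv_mul_eq_one] at this
        exact hi2 e (this ▸ hdN2)
    have ha1 : a ≠ 1 := fun h => hdd (by
      rw [ha, inv_mul_eq_one] at h
      rw [h]; exact Torus.sq_of_two hii)
    refine ⟨a, haN1, haN3, ha1, ha4, by rw [hda]; exact hdN1, by rw [hda]; exact hdN2, ?_⟩
    rw [hda]
    refine orderOf_eq_prime ?_ hdd
    rw [← hd4]
    simp only [pow_succ, pow_zero, one_mul, mul_assoc]
  choose a ha1 ha3 hane _ hd1 hd2 hdo using hex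
  have hfib : ∀ e e', a e = a e' → e' = e ∨ e' = e + c := by
    intro e e' heq
    set d := i * (a e)⁻¹ with hd
    have hd' : d ∈ NX (t2 e') := by rw [hd, heq]; exact hd2 e'
    set u := d * d * U hF 0 c with hu
    have hu1 : u ≠ 1 := by
      intro h
      have h' := eq_inv_of_mul_eq_one_left h
      rw [U_zero_inv] at h'
      exact hj1 (h' ▸ mul_mem (hd1 e) (hd1 e))
    have hm1 : u ∈ CX (t2 e) := (torus_cent hF hm (hf2 e)).mul_mem_of_two
      (mul_mem (hd2 e) (hd2 e)) (hjN e) (hdo e) (orderOf_U hF hc0)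
    have hm2 : u ∈ CX (t2 e') := (torus_cent hF hm (hf2 e')).mul_mem_of_two
      (mul_mem hd' hd') (hjN e') (hdo e) (orderOf_U hF hc0)
    have heqC := eq_of_common hF hm (hf2 e) (hf2 e') hm1 hm2 hu1
    have hzN : U hF 0 (e + e') ∈ NX (t2 e) := by
      have hmem : t2 e ∈ CX (t2 e) := Subgroup.mem_centralizer_singleton_iff.2 rfl
      refine (torus_cent hF hm (hf2 e)).tsi hmem (fpf_ne_one (hf2 e)) ?_
      show _ ∈ CX (t2 e)
      rw [heqC]
      have he' : U hF 0 e' = U hF 0 (e + e') * U hF 0 e := by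
        rw [U_zero_mul]; congr 1; linear_combination -e * two_eq_zero hF
      have : U hF 0 (e + e') * t2 e * (U hF 0 (e + e'))⁻¹ = t2 e' := by
        rw [ht2]; dsimp only; rw [he']; group
      rw [this]
      exact Subgroup.mem_centralizer_singleton_iff.2 rfl
    rcases (torus_cent hF hm (hf2 e)).comm_two (hjN e) (orderOf_U hF hc0) hzN
      (by rw [U_zero_mul, add_self hF, U_zero]) (by rw [U_zero_mul, U_zero_mul, add_comm]) with h | h
    · exact Or.inl (eq_of_add_eq_zero hF (U_inj hF (h.trans (U_zero hF).symm)).2).symm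
    · right
      linear_combination (U_inj hF h).2 - e * two_eq_zero hF
  set S : Subgroup G := NX g ⊓ NX t3 with hS
  have hS4 : Nat.card S ≤ 4 := by
    refine card_le_four hF hm hg inf_le_left fun x hx hxC => ?_
    by_contra hx1
    have h4 : x ^ 4 ≠ 1 := fun h => hx1 (eq_one_of_four hF hm hg hxC h)
    have e13 := eq_of_common hF hm hg hf3 (pow_mem hxC 4)
      (pow_four_mem hF hm hf3 (Subgroup.mem_inf.1 hx).2) h4
    exact hk1 (by rwa [NX, ← e13] at hkN)
  let T' : Finset G := (Finset.univ.filter fun x => x ∈ S).erase 1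
  have hT : T'.card ≤ 3 := by
    have h' : (Finset.univ.filter fun x => x ∈ S).card ≤ 4 := by
      rwa [Nat.card_eq_fintype_card, Fintype.card_subtype] at hS4
    rw [Finset.card_erase_of_mem (by simp [one_mem])]
    omega
  have h2 := Finset.card_le_mul_card_image (f := a) (Finset.univ : Finset F) 2 (by
    intro x hx
    obtain ⟨e, -, rfl⟩ := Finset.mem_image.1 hx
    refine le_trans (Finset.card_le_card (t := {e, e + c}) fun e' he' => ?_) Finset.card_le_two
    rcases hfib e e' (Finset.mem_filter.1 he').2.symm with rfl | rfl <;> simp)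
  have h3 : (Finset.univ.image a).card ≤ 3 := by
    refine le_trans (Finset.card_le_card fun x hx => ?_) hT
    obtain ⟨e, -, rfl⟩ := Finset.mem_image.1 hx
    simp only [T', Finset.mem_erase, Finset.mem_filter, Finset.mem_univ, true_and]
    exact ⟨hane e, Subgroup.mem_inf.2 ⟨ha1 e, ha3 e⟩⟩
  rw [Finset.card_univ] at h2
  have h8 := (q_facts hF hm).1
  omega

/-- A conjugate of `U(0,c)` fixing `pt(0,0)`. -/
noncomputable def J (c : F) : G := W hF * U hF 0 c * W hF

theorem T_conj_J (l : Fˣ) (c : F) :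
    T hF l * J hF c * (T hF l)⁻¹ = J hF (((mu m l)⁻¹ : Fˣ) * c) := by
  have h1 : T hF l * W hF = W hF * T hF l⁻¹ := by rw [W_mul_T, inv_inv]
  have h2 : W hF * (T hF l)⁻¹ = T hF l * W hF := by rw [← T_inv, W_mul_T, inv_inv]
  calc T hF l * J hF c * (T hF l)⁻¹
      = T hF l * W hF * U hF 0 c * (W hF * (T hF l)⁻¹) := by rw [J]; group
    _ = W hF * (T hF l⁻¹ * U hF 0 c) * (T hF l * W hF) := by
      conv_lhs => rw [h1, h2]
      rw [← mul_assoc (W hF)]
    _ = _ := by
      rw [T_U_zero, J, map_inv, show W hF * (U hF 0 ((((mu m l)⁻¹ : Fˣ) : F) * c) * T hF l⁻¹)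
        * (T hF l * W hF) = W hF * U hF 0 ((((mu m l)⁻¹ : Fˣ) : F) * c) * (T hF l⁻¹ * T hF l) * W hF
        by group, ← T_mul, inv_mul_cancel, T_one, mul_one]

/-- In each torus, a nontrivial element is, up to conjugacy, a product of two involutions with
the standard fixed points. -/
theorem exists_standard (hm : 1 ≤ m) {g u : G} (hg : Fpf g) (hu : u ∈ CX g) (hu1 : u ≠ 1) :
    ∃ (P : F) (v : G), P ≠ 0 ∧ v * u * v⁻¹ = U hF 0 1 * J hF P := by
  obtain ⟨g₁, g₂, HT⟩ := exists_tori hF hm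
  have hX := torus_cent hF hm hg
  obtain ⟨i, hiN, hio⟩ : ∃ i ∈ NX g, orderOf i = 2 := by
    have key : ∀ g₀, Fpf g₀ → Nat.card (NX g₀ : Subgroup G) = Nat.card (CX g₀ : Subgroup G) * 4 →
        ∀ h, CX g = (CX g₀).map (MulAut.conj h).toMonoidHom → ∃ i ∈ NX g, orderOf i = 2 := by
      intro g₀ _ hN h e
      obtain ⟨i, hi, hio⟩ := exists_two (F := F) (dvd_mul_right 2 2) hN
      refine ⟨h * i * h⁻¹, ?_, by rw [Torus.orderOf_conj', hio]⟩
      rw [NX, e, ← Subgroup.map_equiv_normalizer_eq, mem_map_conj]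
      convert hi using 1
      group
    rcases HT.cover hF hm hg with ⟨h, e⟩ | ⟨h, e⟩
    · exact key g₁ HT.fpf₁ HT.norm₁ h e
    · exact key g₂ HT.fpf₂ HT.norm₂ h e
  have hjo := hX.mul_two hiN hio hu
  obtain ⟨p, hp, hip⟩ := exists_fix hF hm hio
  obtain ⟨r, hr, hjr⟩ := exists_fix hF hm hjo
  have hne : p ≠ r := by
    rintro rfl
    rw [mul_smul] at hjr
    exact ((torus hF hm hg).2 u hu hu1).1 p hp (MulAction.injective i (hjr.trans hip.symm))
  obtain ⟨h, h1, h2⟩ := exists_smul_pair hF hp hr hne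
  obtain ⟨b, hb, eb⟩ := involution_at_inf hF hm (i := h⁻¹ * i * h) (by
      have := Torus.orderOf_conj' h⁻¹ i
      rw [inv_inv] at this; rw [this, hio])
    (by rw [mul_smul, mul_smul, h1, hip, ← h1, inv_smul_smul])
  obtain ⟨c, hc, ec⟩ := involution_at_inf hF hm (i := W hF * (h⁻¹ * (i * u) * h) * W hF) (by
      have := Torus.orderOf_conj' (W hF * h⁻¹) (i * u)
      rw [_root_.mul_inv_rev, inv_inv, W_inv] at this
      rw [← hjo, ← this]; simp only [mul_assoc])
    (by rw [mul_smul, mul_smul, W_smul_inf, mul_smul, mul_smul, h2, hjr, ← h2, inv_smul_smul,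
      W_smul_zero])
  obtain ⟨l, hl⟩ := mu_surjective (m := m) hF (Units.mk0 b hb)⁻¹
  refine ⟨((mu m l)⁻¹ : Fˣ) * c, T hF l * h⁻¹, mul_ne_zero (Units.ne_zero _) hc, ?_⟩
  rw [← T_conj_J]
  have hju : h⁻¹ * (i * u) * h = J hF c := by
    rw [J, ← ec]
    simp only [← mul_assoc, W_mul_W, one_mul]
    simp only [mul_assoc, W_mul_W, mul_one]
  have hone : T hF l * U hF 0 b * (T hF l)⁻¹ = U hF 0 1 := by
    rw [T_U_zero, mul_inv_cancel_right, hl, Units.val_inv_eq_inv_val, Units.val_mk0,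
      inv_mul_cancel₀ hb]
  rw [← hone, ← hju, ← eb]
  calc T hF l * h⁻¹ * u * (T hF l * h⁻¹)⁻¹
      = T hF l * h⁻¹ * ((i * i) * u) * h * (T hF l)⁻¹ := by rw [Torus.sq_of_two hio]; group
    _ = _ := by group

/-- The element `W U(x,y) W` in root coordinates. -/
theorem exists_hel (hm : 1 ≤ m) (y : F) :
    ∃ (a b c d : F) (k : Fˣ),
      W hF * U hF 1 y * W hF = U hF a b * W hF * (U hF c d * T hF k) := by
  have hne : fz m (1 : F) y ≠ 0 := fun h => one_ne_zero ((fz_eq_zero hF).1 h).1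
  have hinf : (W hF * U hF 1 y * W hF) • ∞'
      = pt m (y / fz m 1 y) (1 / fz m 1 y) := by
    rw [mul_smul, mul_smul, W_smul_inf, U_smul_zero]
    exact wel_smul_pt hF hne
  set a := y / fz m (1 : F) y
  set b := 1 / fz m (1 : F) y
  obtain ⟨c, d, k, e⟩ := eq_U_T_of_fix hF hm (W hF * (U hF a b)⁻¹ * (W hF * U hF 1 y * W hF))
    (by rw [mul_smul, hinf, mul_smul, ← U_smul_zero hF a b, inv_smul_smul, W_smul_zero])
  refine ⟨a, b, c, d, k, ?_⟩
  rw [← e, mul_assoc (W hF) (U hF a b)⁻¹, ← mul_assoc (U hF a b * W hF) (W hF),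
    mul_assoc (U hF a b), W_mul_W, mul_one, mul_inv_cancel_left]

/-- Five products: a product equal to a conjugate, with second factor outside the torus. -/
theorem exists_triangle (hm : 1 ≤ m) {g u : G} (hg : Fpf g) (hu : u ∈ CX g) (hu1 : u ≠ 1) :
    ∃ a b : G, u * (a * u * a⁻¹) = b * u * b⁻¹ ∧ a * u * a⁻¹ ∉ CX g := by
  classical
  obtain ⟨P, v, hP, hv⟩ := exists_standard hF hm hg hu hu1
  set i := U hF 0 (1 : F)
  set j := J hF P with hj
  choose a b c d k hk using exists_hel hF hm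
  have hsq : Function.Surjective (fun l : Fˣ => l * l) := fun x => exists_sq hF x
  have hl : ∀ y, ∃ l : Fˣ, (mu m (k y * (l * l)) : Fˣ) = (Units.mk0 P hP)⁻¹ := by
    intro y
    obtain ⟨x, hx⟩ := mu_surjective (m := m) hF (Units.mk0 P hP)⁻¹
    obtain ⟨l, hl⟩ := hsq ((k y)⁻¹ * x)
    exact ⟨l, by rw [show l * l = (k y)⁻¹ * x from hl, mul_inv_cancel_left, hx]⟩
  choose l hl using hl
  set w : F → G := fun y => T hF (l y) * U hF 1 y * (T hF (l y))⁻¹ with hw
  set third : F → G := fun y => w y * j * (w y)⁻¹ with hthird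
  have hwc : ∀ y, w y * i = i * w y := fun y => by
    rw [hw]; dsimp only; rw [T_conj_U, U_zero_comm]
  have hik : ∀ y, i * third y = w y * (i * j) * (w y)⁻¹ := fun y => by
    rw [hthird]; dsimp only; rw [← mul_assoc, ← mul_assoc, ← hwc, mul_assoc (w y) i j]
  have hjk : ∀ y, ∃ r, j * third y = r * (i * j) * r⁻¹ := by
    intro y
    set h := W hF * w y * W hF with hh
    have hjk' : W hF * (j * third y) * (W hF)⁻¹ = U hF 0 P * (h * U hF 0 P * h⁻¹) := by
      rw [hthird, hj, hh, J, W_inv]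
      simp only [_root_.mul_inv_rev, W_inv, ← mul_assoc, W_mul_W, one_mul]
    set L := l y
    have hform : h = T hF L⁻¹ * U hF (a y) (b y) * (W hF * U hF (c y) (d y) * T hF (k y * L)) := by
      rw [hh, hw]
      dsimp only
      calc W hF * (T hF L * U hF 1 y * (T hF L)⁻¹) * W hF
          = (W hF * T hF L) * U hF 1 y * ((T hF L)⁻¹ * W hF) := by group
        _ = T hF L⁻¹ * (W hF * U hF 1 y * W hF) * T hF L := by
          have e1 : W hF * T hF L = T hF L⁻¹ * W hF := W_mul_T hF L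
          have e2 : (T hF L)⁻¹ * W hF = W hF * T hF L := by rw [← T_inv, e1]
          conv_lhs => rw [e2]
          rw [show W hF * T hF L * U hF 1 y * (W hF * T hF L)
            = (W hF * T hF L) * (U hF 1 y * W hF) * T hF L by group]
          conv_lhs => arg 1; arg 1; rw [e1]
          group
        _ = _ := by rw [hk, T_mul]; group
    set A := T hF L⁻¹ * U hF (a y) (b y) * T hF L with hA
    set Q : F := ((mu m (k y * (L * L)) : Fˣ) : F) * P with hQ
    have hcomm : ∀ x : F, A * U hF 0 x = U hF 0 x * A := fun x => by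
      rw [hA, T_mul_U, mul_assoc (U hF _ _), ← T_mul, inv_mul_cancel, T_one, mul_one, U_zero_comm]
    have hconj : h * U hF 0 P * h⁻¹ = A * J hF Q * A⁻¹ := by
      have h1 : T hF (k y * L) * U hF 0 P * (T hF (k y * L))⁻¹
          = U hF 0 ((mu m (k y * L) : Fˣ) * P) := by rw [T_U_zero, mul_inv_cancel_right]
      have h2 : T hF L * W hF = W hF * T hF L⁻¹ := by rw [W_mul_T, inv_inv]
      rw [hform]
      calc T hF L⁻¹ * U hF (a y) (b y) * (W hF * U hF (c y) (d y) * T hF (k y * L)) * U hF 0 P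
            * (T hF L⁻¹ * U hF (a y) (b y) * (W hF * U hF (c y) (d y) * T hF (k y * L)))⁻¹
          = T hF L⁻¹ * U hF (a y) (b y) * W hF * (U hF (c y) (d y)
            * (T hF (k y * L) * U hF 0 P * (T hF (k y * L))⁻¹) * (U hF (c y) (d y))⁻¹) * (W hF)⁻¹
            * (T hF L⁻¹ * U hF (a y) (b y))⁻¹ := by group
        _ = T hF L⁻¹ * U hF (a y) (b y) * J hF ((mu m (k y * L) : Fˣ) * P)
            * (T hF L⁻¹ * U hF (a y) (b y))⁻¹ := by
          rw [h1, U_zero_comm, mul_inv_cancel_right, W_inv, J]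
          group
        _ = A * (T hF L⁻¹ * J hF ((mu m (k y * L) : Fˣ) * P) * (T hF L⁻¹)⁻¹) * A⁻¹ := by
          rw [hA, T_inv]; group
        _ = _ := by
          rw [T_conj_J, hQ, map_inv, inv_inv]
          congr 3
          simp only [map_mul, Units.val_mul]
          ring
    obtain ⟨s, hs⟩ := mu_surjective (m := m) hF (Units.mk0 P hP)
    have hQP : Q = 1 := by
      rw [hQ, hl, Units.val_inv_eq_inv_val, Units.val_mk0, inv_mul_cancel₀ hP]
    have hscale : T hF s * (i * j) * (T hF s)⁻¹ = U hF 0 P * J hF Q := by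
      rw [show T hF s * (i * j) * (T hF s)⁻¹
        = (T hF s * i * (T hF s)⁻¹) * (T hF s * j * (T hF s)⁻¹) by group, hj, T_conj_J,
        T_U_zero, mul_inv_cancel_right, hs, Units.val_mk0, mul_one, hQP, Units.val_inv_eq_inv_val,
        Units.val_mk0, inv_mul_cancel₀ hP]
    refine ⟨(W hF)⁻¹ * A * T hF s, ?_⟩
    calc j * third y = (W hF)⁻¹ * (W hF * (j * third y) * (W hF)⁻¹) * W hF := by group
      _ = (W hF)⁻¹ * (A * (U hF 0 P * J hF Q) * A⁻¹) * W hF := by
        rw [hjk', hconj, show A * (U hF 0 P * J hF Q) * A⁻¹ = (A * U hF 0 P) * J hF Q * A⁻¹ by group,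
          hcomm]
        group
      _ = _ := by rw [← hscale]; group
  choose r hr using hjk
  have hinj : Function.Injective (fun y => j * third y) := by
    intro y y' e
    have e1 : third y = third y' := mul_left_cancel e
    have hfix : ∀ y, third y • (w y • pt m (0 : F) 0) = w y • pt m 0 0 := fun y => by
      rw [hthird, hj, J]
      simp only [mul_smul, inv_smul_smul, W_smul_zero, U_smul_inf, W_smul_inf]
    have hko : orderOf (third y) = 2 := by
      rw [hthird]; dsimp only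
      rw [Torus.orderOf_conj', hj, J]
      have := Torus.orderOf_conj' (W hF) (U hF 0 P)
      rw [W_inv] at this
      rw [this, orderOf_U hF hP]
    have e2 := fix_unique hF hm hko (smul_mem_ovoid (w y) (pt_mem_ovoid 0 0))
      (smul_mem_ovoid (w y') (pt_mem_ovoid 0 0)) (hfix y) (by rw [e1]; exact hfix y')
    simp only [hw, T_conj_U, U_smul_zero, mul_one] at e2
    obtain ⟨e3, e4⟩ := pt_inj e2
    rw [← e3, mul_right_inj' (mul_ne_zero (Units.ne_zero _) (sig_ne_zero (Units.ne_zero _)))] at e4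
    exact e4
  have hX := torus_cent hF hm hg
  by_contra hcon
  push Not at hcon
  set V : F → G := fun y => v⁻¹ * (j * third y) * v with hV
  have hVc : ∀ y, V y = (v⁻¹ * r y * v) * u * (v⁻¹ * r y * v)⁻¹ := fun y => by
    rw [hV]; dsimp only; rw [hr, ← hv]; group
  have huV : ∀ y, u * V y = (v⁻¹ * w y * v) * u * (v⁻¹ * w y * v)⁻¹ := fun y => by
    have h1 : u = v⁻¹ * (i * j) * v := by rw [← hv]; group
    have hjj : j * j = 1 := by
      rw [hj, J]
      simp only [← mul_assoc]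
      rw [mul_assoc (W hF * U hF 0 P) (W hF), W_mul_W, mul_one, mul_assoc (W hF) (U hF 0 P),
        U_zero_mul, add_self hF, U_zero, mul_one, W_mul_W]
    calc u * V y = v⁻¹ * (i * ((j * j) * third y)) * v := by rw [hV, h1]; group
      _ = v⁻¹ * (w y * (i * j) * (w y)⁻¹) * v := by rw [hjj, one_mul, hik]
      _ = _ := by rw [← hv]; group
  have hVmem : ∀ y, V y ∈ CX g := fun y => by
    rw [hVc]; exact hcon _ (v⁻¹ * w y * v) (by rw [← hVc]; exact huV y)
  have hVN : ∀ y, v⁻¹ * r y * v ∈ NX g := fun y => hX.tsi hu hu1 (by rw [← hVc]; exact hVmem y)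
  obtain ⟨n, hn4, hn⟩ := card_torus_normalizer hF hm hg
  set N := NX g
  set K := (CX g).subgroupOf N
  have hK : Nat.card K = Nat.card (CX g) :=
    Nat.card_congr (Subgroup.subgroupOfEquivOfLe (Subgroup.le_normalizer : CX g ≤ N)).toEquiv
  have hidx : K.index = n := by
    have h := K.index_mul_card
    rw [hK, hn, mul_comm] at h
    exact Nat.eq_of_mul_eq_mul_left Nat.card_pos h
  have hle : Nat.card F ≤ K.index := by
    rw [Subgroup.index]
    refine Nat.card_le_card_of_injective (fun y => ((⟨_, hVN y⟩ : N) : N ⧸ K)) fun y y' e => ?_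
    have hmem : (v⁻¹ * r y * v)⁻¹ * (v⁻¹ * r y' * v) ∈ CX g :=
      Subgroup.mem_subgroupOf.1 (QuotientGroup.eq.1 e)
    rw [CX, ← hX.cent u hu hu1, Subgroup.mem_centralizer_singleton_iff] at hmem
    have : V y = V y' := by
      rw [hVc, hVc]
      calc (v⁻¹ * r y * v) * u * (v⁻¹ * r y * v)⁻¹
          = (v⁻¹ * r y * v) * (u * ((v⁻¹ * r y * v)⁻¹ * (v⁻¹ * r y' * v)))
            * (v⁻¹ * r y' * v)⁻¹ := by group
        _ = _ := by rw [← hmem]; group
    exact hinj (mul_left_cancel (mul_right_cancel this))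
  rw [hidx, Nat.card_eq_fintype_card] at hle
  have h4 := Nat.le_of_dvd (by norm_num) hn4
  have h8 := (q_facts hF hm).1
  omega

/-- A subgroup of the torus. -/
theorem not_binary_torus (hm : 1 ≤ m) {H : Subgroup G} {g : G} (hg : Fpf g) (hH : H ≤ CX g)
    (h1 : H ≠ ⊥) : ¬ IsBinary H := by
  obtain ⟨u, hu, hu1⟩ := (Subgroup.bot_or_exists_ne_one H).resolve_left h1
  obtain ⟨a, b, hab, hout⟩ := exists_triangle hF hm hg (hH hu) hu1
  have hX := torus_cent hF hm hg
  refine not_binary_of_triple (g₁ := 1) (g₂ := a) (g₃ := b) (s := u⁻¹) (t := a * u * a⁻¹) ?_ ?_ ?_ ?_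
  · simpa using hu
  · rw [show a⁻¹ * (a * u * a⁻¹) * a = u by group]; exact hu
  · rw [inv_inv, hab, show b⁻¹ * (b * u * b⁻¹) * b = u by group]; exact hu
  · intro d hd1 hd2 hd3
    rw [inv_one, one_mul, mul_one] at hd1
    have comm : ∀ x ∈ CX g, x * u = u * x := fun x hx => by
      rw [CX, ← hX.cent u (hH hu) hu1] at hx
      exact Subgroup.mem_centralizer_singleton_iff.1 hx
    have hd : d = 1 := by
      by_contra hne
      refine hout ?_
      rw [CX, ← hX.cent d (hH hd1) hne, Subgroup.mem_centralizer_singleton_iff]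
      have := comm _ (hH hd2)
      calc a * u * a⁻¹ * d = a * (u * (a⁻¹ * d * a)) * a⁻¹ := by group
        _ = a * (a⁻¹ * d * a * u) * a⁻¹ := by rw [this]
        _ = _ := by group
    subst hd
    rw [inv_one, one_mul] at hd3
    refine hout ?_
    rw [CX, ← hX.cent u (hH hu) hu1, Subgroup.mem_centralizer_singleton_iff]
    have h := comm _ (hH hd3)
    have h2 : u⁻¹ * (b * u * b⁻¹) = (b * u * b⁻¹) * u⁻¹ := by
      calc u⁻¹ * (b * u * b⁻¹) = b * ((b⁻¹ * u⁻¹ * b) * u) * b⁻¹ := by group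
        _ = b * (u * (b⁻¹ * u⁻¹ * b)) * b⁻¹ := by rw [h]
        _ = _ := by group
    rw [← hab, inv_mul_cancel_left] at h2
    calc a * u * a⁻¹ * u = u * (a * u * a⁻¹) * u⁻¹ * u := by rw [← h2]
      _ = u * (a * u * a⁻¹) := by group

end Cfsg.Agent.LocalEven64.SzBinary
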