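import Cfsg.Agent.LocalEven64.SzBinary.Generic
import Cfsg.Agent.LocalEven64.SzBinary.Scale
import Cfsg.Agent.LocalEven64.SzSub.SolCount

/-!
# Suzuki groups: non-binary actions from solvable and subfield subgroups
-/

set_option autoImplicit false

namespace Cfsg.Agent.LocalEven64.SzBinary

open Cfsg.Agent.Suzuki Cfsg.Agent.LocalEven64.SzSub

variable {F : Type*} [Field F] [Fintype F] {m : ℕ} (hF : Fintype.card F = 2 ^ (2 * m + 1))
include hF

local notation "∞'" => Cfsg.suzukiPointInfinity F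
local notation "G" => Cfsg.Sz F m

/-- `μ`, in the field. -/
local notation "μ'" => fun k : Fˣ => ((mu m k : Fˣ) : F)

theorem T_U_zero (k : Fˣ) (b : F) : T hF k * U hF 0 b = U hF 0 ((mu m k : Fˣ) * b) * T hF k := by
  rw [mu_val, ← mul_inv_eq_iff_eq_mul, T_conj_U, mul_zero]

theorem U_T_U (a b : F) (k : Fˣ) :
    U hF 0 a * T hF k * U hF 0 b = U hF 0 (a + (mu m k : Fˣ) * b) * T hF k := by
  rw [mul_assoc, T_U_zero, ← mul_assoc, U_zero_mul]

theorem U_zero_inv (b : F) : (U hF 0 b)⁻¹ = U hF 0 b :=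
  inv_eq_of_mul_eq_one_right (by rw [U_zero_mul, add_self hF, U_zero])

theorem one_add_mu_ne {k : Fˣ} (hk : k ≠ 1) : (1 : F) + (mu m k : Fˣ) ≠ 0 := fun h =>
  hk ((injective_iff_map_eq_one _).1 (mu_injective hF) k
    (Units.ext (eq_of_add_eq_zero hF h).symm))

/-- The element `e'` for which the product lands in the third conjugate. -/
theorem exists_third {k : Fˣ} (hk : k ≠ 1) (e : F) :
    ∃ c : F, c ≠ 0 ∧
      (T hF k)⁻¹ * (U hF 0 e * T hF k⁻¹ * U hF 0 e)
        = U hF 0 (c * e) * T hF (k⁻¹ * k⁻¹) * U hF 0 (c * e) ∧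
      c = ((mu m k⁻¹ : Fˣ) + (mu m (k⁻¹ * k⁻¹) : Fˣ)) / (1 + (mu m (k⁻¹ * k⁻¹) : Fˣ)) := by
  have hki : k⁻¹ ≠ 1 := by simpa using hk
  have hr : k⁻¹ * k⁻¹ ≠ 1 := fun h => hki (units_eq_one_of_sq hF _ h)
  have hd := one_add_mu_ne hF hr
  refine ⟨_, div_ne_zero ?_ hd, ?_, rfl⟩
  · intro h
    refine hki ?_
    have h1 := mu_injective hF (Units.ext (eq_of_add_eq_zero hF h))
    exact mul_eq_left.1 h1.symm
  · rw [U_T_U, U_T_U, ← T_inv, ← mul_assoc, T_U_zero, mul_assoc, ← T_mul]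
    congr 2
    simp only [map_mul, Units.val_mul] at hd ⊢
    simp only [← sq] at hd ⊢
    field_simp

/-- A subfield subgroup. -/
theorem not_binary_subfield (hm : 1 ≤ m) {K : Type*} [Field K] [Fintype K] {j : ℕ}
    (hK : Fintype.card K = 2 ^ (2 * j + 1)) (hd : 2 * j + 1 ∣ 2 * m + 1) (hj : 1 ≤ j) (hjm : j < m)
    (ι : K →+* F) : ¬ IsBinary (emb hF hK hd ι hj).range := by
  classical
  set H := (emb hF hK hd ι hj).range
  set R := ι.fieldRange with hR
  have hU : ∀ a b : K, emb hF hK hd ι hj (U hK a b) = U hF (ι a) (ι b) := fun a b =>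
    Subtype.ext (base_U hF hK hd ι a b)
  have hT : ∀ k : Kˣ, emb hF hK hd ι hj (T hK k) = T hF (Units.map ι.toMonoidHom k) := fun k =>
    Subtype.ext (base_T hF hK hd ι k)
  have hW : emb hF hK hd ι hj (W hK) = W hF := Subtype.ext (base_W hF hK hd ι)
  have horb : ∀ g ∈ H,
      (∃ a b, a ∈ R ∧ b ∈ R ∧ g • ∞' = pt m a b) ∨
        (∃ a b k, a ∈ R ∧ b ∈ R ∧ ((k : Fˣ) : F) ∈ R ∧ g = U hF a b * T hF k) := by
    rintro _ ⟨x, rfl⟩
    rcases decompose hK hj x with ⟨a, b, k, rfl⟩ | ⟨a, b, c, d, k, rfl⟩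
    · exact Or.inr ⟨ι a, ι b, Units.map ι.toMonoidHom k, ⟨a, rfl⟩, ⟨b, rfl⟩, ⟨k, rfl⟩,
        by rw [map_mul, hU, hT]⟩
    · refine Or.inl ⟨ι a, ι b, ⟨a, rfl⟩, ⟨b, rfl⟩, ?_⟩
      simp only [map_mul, hU, hT, hW, mul_smul, T_smul_inf, U_smul_inf, W_smul_inf, U_smul_zero]
  obtain ⟨e, he⟩ : ∃ e, e ∉ R := by
    by_contra hcon
    push Not at hcon
    have hlt : Fintype.card K < Fintype.card F := by
      rw [hK, hF]; exact Nat.pow_lt_pow_right one_lt_two (by omega)
    exact hlt.not_ge (Fintype.card_le_of_surjective ι fun x => hcon x)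
  obtain ⟨k₀, hk0, hk1⟩ := exists_ne_zero_one hK hj
  set kK : Kˣ := Units.mk0 k₀ hk0
  set k : Fˣ := Units.map ι.toMonoidHom kK with hkdef
  have hk : k ≠ 1 := fun h => hk1 (ι.injective (by
    rw [map_one]; exact congrArg Units.val h))
  have hkR : (k : F) ∈ R := ⟨k₀, rfl⟩
  have hmuR : ∀ l : Fˣ, (l : F) ∈ R → ((mu m l : Fˣ) : F) ∈ R := fun l hl => by
    rw [mu_val]; exact mul_mem hl (pow_mem hl _)
  have hTH : ∀ l : Kˣ, T hF (Units.map ι.toMonoidHom l) ∈ H := fun l => ⟨T hK l, hT l⟩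
  obtain ⟨c, hc, heq, hcdef⟩ := exists_third hF hk e
  have hcR : c ∈ R := by
    rw [hcdef]
    have h1 : ((k⁻¹ : Fˣ) : F) ∈ R := by rw [Units.val_inv_eq_inv_val]; exact inv_mem hkR
    refine div_mem (add_mem (hmuR _ h1) (hmuR _ ?_)) (add_mem (one_mem R) (hmuR _ ?_)) <;>
      (rw [Units.val_mul]; exact mul_mem h1 h1)
  refine not_binary_of_triple (g₁ := 1) (g₂ := U hF 0 e) (g₃ := U hF 0 (c * e)) (s := T hF k)
    (t := U hF 0 e * T hF k⁻¹ * U hF 0 e) ?_ ?_ ?_ ?_
  · rw [inv_one, one_mul, mul_one]; exact hTH kK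
  · rw [U_zero_inv, ← mul_assoc, ← mul_assoc, U_zero_mul, mul_assoc, U_zero_mul, add_self hF,
      U_zero, one_mul, mul_one, hkdef, ← map_inv]
    exact hTH _
  · rw [heq, U_zero_inv, ← mul_assoc, ← mul_assoc, U_zero_mul, mul_assoc, U_zero_mul, add_self hF,
      U_zero, one_mul, mul_one, hkdef, ← map_inv, ← map_mul]
    exact hTH _
  · intro d hd1 hd2 hd3
    rw [inv_one, one_mul, mul_one] at hd1
    rw [U_zero_inv] at hd2 hd3
    rcases horb d hd1 with ⟨a, b, haR, hbR, hab⟩ | ⟨a, b, k1, haR, hbR, hk1R, rfl⟩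
    · have hmove : (U hF 0 e * d * U hF 0 e) • ∞' = pt m a (b + e) := by
        rw [mul_smul, mul_smul, U_smul_inf, hab, U_smul_pt, sig_zero, zero_mul, add_zero, add_zero]
      rcases horb _ hd2 with ⟨a', b', -, hb'R, hab'⟩ | ⟨a', b', k', -, -, -, hab'⟩
      · obtain ⟨-, hbe⟩ := pt_inj (hmove.symm.trans hab')
        exact he ((add_mem_cancel_left hbR).1 (hbe ▸ hb'R))
      · rw [hab', mul_smul, T_smul_inf, U_smul_inf] at hmove
        exact pt_ne_inf _ _ hmove.symm
    · have key : ∀ (a b w : F) (l : Fˣ), U hF 0 w * (U hF a b * T hF l) * U hF 0 w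
          = U hF a (b + w * (1 + (mu m l : Fˣ))) * T hF l := fun a b w l => by
        rw [← mul_assoc, ← U_zero_comm, mul_assoc _ _ (U hF 0 w), T_U_zero, ← mul_assoc,
          mul_assoc (U hF a b), U_zero_mul, U_mul, add_zero]
        congr 2
        ring
      have hmem : ∀ a b l, U hF a b * T hF l ∈ H → b ∈ R := fun a b l h => by
        rcases horb _ h with ⟨_, _, -, -, h'⟩ | ⟨a', b', l', -, hb', -, h'⟩
        · rw [mul_smul, T_smul_inf, U_smul_inf] at h'
          exact absurd h'.symm (pt_ne_inf _ _)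
        · exact (U_T_inj hF h').2.1 ▸ hb'
      rw [key] at hd2
      have hk11 : k1 = 1 := by
        by_contra hne
        have h1 := (add_mem_cancel_left hbR).1 (hmem _ _ _ hd2)
        have h2 : (1 : F) + (mu m k1 : Fˣ) ∈ R := add_mem (one_mem R) (hmuR _ hk1R)
        refine he ?_
        have := mul_mem h1 (inv_mem h2)
        rwa [mul_inv_cancel_right₀ (one_add_mu_ne hF hne)] at this
      subst hk11
      rw [T_one, mul_one, U_inv, key] at hd3
      have hb' : b + sig m a * a ∈ R := add_mem hbR (mul_mem (pow_mem haR _) haR)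
      have h1 := (add_mem_cancel_left hb').1 (hmem _ _ _ hd3)
      have h2 : (1 : F) + (mu m k : Fˣ) ∈ R := add_mem (one_mem R) (hmuR _ hkR)
      refine he ?_
      have := mul_mem (inv_mem hcR) (mul_mem h1 (inv_mem h2))
      rwa [mul_inv_cancel_right₀ (one_add_mu_ne hF hk), inv_mul_cancel_left₀ hc] at this

theorem W_conj_T (k : Fˣ) : W hF * T hF k * W hF = T hF k⁻¹ := by
  rw [W_mul_T, mul_assoc, W_mul_W, mul_one]

/-- A subgroup of a point stabiliser containing a split element. -/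
theorem not_binary_point_T (hm : 1 ≤ m) {H : Subgroup G} (hH : ∀ x ∈ H, x • ∞' = ∞') {k : Fˣ}
    (hk : k ≠ 1) (hkH : T hF k ∈ H) : ¬ IsBinary H := by
  obtain ⟨c, hc, heq, -⟩ := exists_third hF hk 1
  rw [mul_one] at heq
  have hconj : ∀ w : F, ∀ l : Fˣ,
      (U hF 0 w * W hF)⁻¹ * (U hF 0 w * T hF l * U hF 0 w) * (U hF 0 w * W hF) = T hF l⁻¹ := by
    intro w l
    calc (U hF 0 w * W hF)⁻¹ * (U hF 0 w * T hF l * U hF 0 w) * (U hF 0 w * W hF)
        = (W hF)⁻¹ * T hF l * (U hF 0 w * U hF 0 w) * W hF := by group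
      _ = _ := by rw [U_zero_mul, add_self hF, U_zero, mul_one, W_inv, W_conj_T]
  refine not_binary_of_triple (g₁ := W hF) (g₂ := U hF 0 1 * W hF) (g₃ := U hF 0 c * W hF)
    (s := T hF k) (t := U hF 0 1 * T hF k⁻¹ * U hF 0 1) ?_ ?_ ?_ ?_
  · rw [W_inv, W_conj_T, T_inv]; exact inv_mem hkH
  · rw [hconj, inv_inv]; exact hkH
  · rw [heq, hconj, mul_inv_rev, inv_inv, T_mul]; exact mul_mem hkH hkH
  · intro d hd1 hd2 hd3
    have hfix : ∀ (w : F) (x : G), (U hF 0 w * W hF)⁻¹ * x * (U hF 0 w * W hF) ∈ H →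
        x • pt m 0 w = pt m 0 w := by
      intro w x hx
      have h := hH _ hx
      rw [mul_smul, mul_smul, inv_smul_eq_iff, mul_smul, W_smul_inf, U_smul_zero] at h
      exact h
    have hd0 : d • pt m (0 : F) 0 = pt m 0 0 := by
      have h := hH _ hd1
      rwa [mul_smul, mul_smul, W_smul_inf, inv_smul_eq_iff, W_smul_inf] at h
    have hd1' := hfix 1 d hd2
    have ha' := hfix c _ hd3
    set a := d⁻¹ * T hF k with hadef
    have ha0 : a • pt m (0 : F) 0 = pt m 0 0 := by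
      rw [hadef, mul_smul, T_smul_zero, inv_smul_eq_iff, hd0]
    have form : ∀ (x : G) (w : F), w ≠ 0 → x • pt m (0 : F) 0 = pt m 0 0 →
        x • pt m 0 w = pt m 0 w → ∃ X : F, X ≠ 0 ∧ ∃ l : Fˣ,
          W hF * x * W hF = U hF ((1 + (l : F)) * X)
            ((l : F) * sig m X * X * (1 + sig m (l : F))) * T hF l := by
      intro x w hw h0 hw'
      have hfz : fz m (0 : F) w ≠ 0 := fun h => hw (fz_eq_zero hF |>.1 h).2
      set X := w / fz m (0 : F) w with hX
      have hWw : W hF • pt m (0 : F) w = pt m X 0 := by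
        have := wel_smul_pt (m := m) hF hfz
        rw [zero_div] at this
        exact this
      refine ⟨X, div_ne_zero hw hfz, ?_⟩
      set y := W hF * x * W hF
      have hy1 : y • ∞' = ∞' := by rw [mul_smul, mul_smul, W_smul_inf, h0, W_smul_zero]
      have hy2 : y • pt m X 0 = pt m X 0 := by
        rw [← hWw, mul_smul, mul_smul, ← mul_smul (W hF) (W hF), W_mul_W, one_smul, hw']
      obtain ⟨l, hl⟩ := eq_T_of_fix hF hm ((U hF X 0)⁻¹ * y * U hF X 0)
        (by rw [mul_smul, mul_smul, U_smul_inf, hy1, inv_smul_eq_iff, U_smul_inf])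
        (by rw [mul_smul, mul_smul, U_smul_zero, hy2, inv_smul_eq_iff, U_smul_zero])
      refine ⟨l, ?_⟩
      rw [show y = U hF X 0 * T hF l * (U hF X 0)⁻¹ by rw [← hl]; group, U_inv, zero_add,
        mul_assoc, T_mul_U, ← mul_assoc, U_mul]
      congr 2 <;> ring
    obtain ⟨X, hX, k1, e1⟩ := form d 1 one_ne_zero hd0 hd1'
    obtain ⟨Y, hY, k2, e2⟩ := form a c hc ha0 ha'
    have hprod : W hF * d * W hF * (W hF * a * W hF) = U hF 0 0 * T hF k⁻¹ := by
      rw [U_zero, one_mul, ← W_conj_T hF k,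
        show W hF * d * W hF * (W hF * a * W hF) = W hF * d * (W hF * W hF) * a * W hF by group,
        W_mul_W, hadef]
      group
    rw [e1, e2, stab_mul] at hprod
    obtain ⟨hfst, hsnd, hKK⟩ := U_T_inj hF hprod
    have hK : k⁻¹ ≠ 1 := by simpa using hk
    set K : F := ((k⁻¹ : Fˣ) : F) with hKdef
    have hK1 : K ≠ 1 := fun h => hK (Units.ext h)
    have hKval : (k1 : F) * k2 = K := by rw [hKdef, ← hKK, Units.val_mul]
    have hZ : (k1 : F) * (1 + k2) * Y = (1 + k1) * X := by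
      linear_combination hfst - (1 + (k1 : F)) * X * two_eq_zero hF
    have hsZ : sig m (k1 : F) * ((1 + sig m (k2 : F)) * sig m Y) = (1 + sig m (k1 : F)) * sig m X := by
      have := congrArg (sig m) hZ
      simp only [sig_mul, sig_add hF, sig_one] at this
      linear_combination this
    have hsnd' : (1 + sig m (k1 : F)) * sig m X * (X + K * Y) = 0 := by
      simp only [sig_mul, sig_add hF, sig_one] at hsnd
      linear_combination hsnd - (k1 : F) * k2 * Y * hsZ
        - (1 + sig m (k1 : F)) * sig m X * hZ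
        - (1 + sig m (k1 : F)) * sig m X * Y * hKval
        - (1 + sig m (k1 : F)) * sig m X * (k1 : F) * X * two_eq_zero hF
    rcases mul_eq_zero.1 hsnd' with h | h
    · rcases mul_eq_zero.1 h with h | h
      · have h1 : (k1 : F) = 1 :=
          sig_injective (m := m) hF (by rw [sig_one]; exact (eq_of_add_eq_zero hF h).symm)
        rw [h1, one_mul] at hKval
        rw [h1, add_self hF, zero_mul, one_mul, hKval] at hZ
        rcases mul_eq_zero.1 hZ with h | h
        · exact hK1 (eq_of_add_eq_zero hF h).symm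
        · exact hY h
      · exact sig_ne_zero hX h
    · have hX' := eq_of_add_eq_zero hF h
      rw [hX'] at hZ
      have h2 : (k1 : F) * (1 + K) * Y = 0 := by
        linear_combination hZ - Y * hKval + (k1 : F) * K * Y * two_eq_zero hF
      rcases mul_eq_zero.1 h2 with h3 | h3
      · rcases mul_eq_zero.1 h3 with h4 | h4
        · exact k1.ne_zero h4
        · exact hK1 (eq_of_add_eq_zero hF h4).symm
      · exact hY h3

/-- A subgroup of the centre of the root group. -/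
theorem not_binary_center {H : Subgroup G} (hH : H ≤ ZSub hF) (h1 : H ≠ ⊥) (h2 : H ≠ ZSub hF) :
    ¬ IsBinary H := by
  haveI : CharP F 2 := charP_two hF
  let V : AddSubgroup F :=
    { carrier := {b | U hF 0 b ∈ H}
      zero_mem' := show U hF 0 0 ∈ H by rw [U_zero]; exact one_mem H
      add_mem' := fun {x y} hx hy => show U hF 0 (x + y) ∈ H by
        rw [← U_zero_mul]; exact mul_mem hx hy
      neg_mem' := fun {x} hx => show U hF 0 (-x) ∈ H by
        rw [neg_eq_of_add_eq_zero_left (add_self hF x)]; exact hx }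
  have hV1 : V ≠ ⊥ := by
    intro hV
    refine h1 ((Subgroup.eq_bot_iff_forall H).2 fun x hx => ?_)
    obtain ⟨b, rfl⟩ := hH hx
    have : b ∈ V := hx
    rw [hV, AddSubgroup.mem_bot] at this
    rw [this, U_zero]
  have hV2 : V ≠ ⊤ := by
    intro hV
    refine h2 (le_antisymm hH ?_)
    rintro _ ⟨b, rfl⟩
    exact (show b ∈ V by rw [hV]; exact AddSubgroup.mem_top b)
  obtain ⟨a, b, c, ha, hb, hc, s, t, hs, ht, hst, hd⟩ := scale_witness V hV1 hV2
  obtain ⟨la, hla⟩ := mu_surjective (m := m) hF (Units.mk0 a ha)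
  obtain ⟨lb, hlb⟩ := mu_surjective (m := m) hF (Units.mk0 b hb)
  obtain ⟨lc, hlc⟩ := mu_surjective (m := m) hF (Units.mk0 c hc)
  have key : ∀ (l : Fˣ) (x : F), (T hF l)⁻¹ * U hF 0 x * T hF l
      = U hF 0 (((mu m l : Fˣ) : F)⁻¹ * x) := fun l x => by
    rw [mul_assoc, inv_mul_eq_iff_eq_mul, T_U_zero, ← mul_assoc, mul_inv_cancel₀ (Units.ne_zero _),
      one_mul]
  have fixZ : ∀ (l : Fˣ) (d : G), (T hF l)⁻¹ * d * T hF l ∈ H →
      ∃ x, d = U hF 0 x ∧ ((mu m l : Fˣ) : F)⁻¹ * x ∈ V := by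
    intro l d hd
    obtain ⟨z, hz⟩ := hH hd
    refine ⟨(mu m l : Fˣ) * z, ?_, ?_⟩
    · rw [show d = T hF l * ((T hF l)⁻¹ * d * T hF l) * (T hF l)⁻¹ by group, hz, T_U_zero,
        mul_inv_cancel_right]
    · rw [inv_mul_cancel_left₀ (Units.ne_zero _)]
      exact (show U hF 0 z ∈ H from hz ▸ hd)
  refine not_binary_of_triple (g₁ := T hF la) (g₂ := T hF lb) (g₃ := T hF lc) (s := U hF 0 s)
    (t := U hF 0 t) ?_ ?_ ?_ ?_
  · rw [key, hla, Units.val_mk0]; exact hs
  · rw [key, hlb, Units.val_mk0]; exact ht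
  · rw [U_zero_inv, U_zero_mul, key, hlc, Units.val_mk0]; exact hst
  · intro d hd1 hd2 hd3
    obtain ⟨x, rfl, hx⟩ := fixZ la d hd1
    obtain ⟨y, hy', hy⟩ := fixZ lb _ hd2
    rw [← (U_inj hF hy').2] at hy
    rw [hla, Units.val_mk0] at hx
    rw [hlb, Units.val_mk0] at hy
    rw [U_zero_inv, U_zero_mul, key, hlc, Units.val_mk0] at hd3
    exact hd x hx hy hd3

/-- A point-fixing subgroup without split elements, with an element of order four in the
normalizer of a torus. -/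
theorem not_binary_four (hm : 1 ≤ m) {H : Subgroup G} {g : G} (hg : Fpf g)
    {p : Projectivization F (Fin 4 → F)} (hp : p ∈ Cfsg.suzukiOvoid F m)
    (hfix : ∀ x ∈ H, x • p = p)
    (honly : ∀ x ∈ H, x ≠ 1 → ∀ r ∈ Cfsg.suzukiOvoid F m, x • r = r → r = p)
    {n : G} (hn : n ∈ H) (hn4 : orderOf n = 4)
    (hnN : n ∈ Subgroup.normalizer (Subgroup.centralizer {g} : Set G)) : ¬ IsBinary H := by
  have hX := torus_cent hF hm hg
  set k := g
  have hkX : k ∈ Subgroup.centralizer ({g} : Set G) := Subgroup.mem_centralizer_singleton_iff.2 rfl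
  have hn2 : orderOf (n * n) = 2 := by rw [← sq, orderOf_pow' n two_ne_zero, hn4]; decide
  set x := n⁻¹ * (k * n * k⁻¹) with hx
  have hxX : x ∈ Subgroup.centralizer ({g} : Set G) := by
    rw [hx, ← mul_assoc, ← mul_assoc]
    refine mul_mem ?_ (inv_mem hkX)
    have := (Subgroup.mem_normalizer_iff.1 (inv_mem hnN) k).1 hkX
    rwa [inv_inv] at this
  have hw : orderOf (n * n * x) = 2 := hX.mul_two (mul_mem hnN hnN) hn2 hxX
  obtain ⟨c, hc⟩ := isConj_iff.1 ((isConj_involution hF hm one_ne_zero hn2).symm.trans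
    (isConj_involution hF hm one_ne_zero hw))
  have hkp : k • p ≠ p := hg p hp
  refine not_binary_of_triple (g₁ := 1) (g₂ := k) (g₃ := c) (s := n⁻¹) (t := k * n * k⁻¹) ?_ ?_ ?_ ?_
  · simpa using hn
  · rw [show k⁻¹ * (k * n * k⁻¹) * k = n by group]; exact hn
  · rw [inv_inv, show n * (k * n * k⁻¹) = n * n * x by rw [hx]; group, ← hc,
      show c⁻¹ * (c * (n * n) * c⁻¹) * c = n * n by group]
    exact mul_mem hn hn
  · intro d hd1 hd2 hd3
    rw [inv_one, one_mul, mul_one] at hd1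
    have hd : d = 1 := by
      by_contra hne
      refine hkp (honly d hd1 hne _ (smul_mem_ovoid k hp) ?_)
      have := hfix _ hd2
      rwa [mul_smul, mul_smul, inv_smul_eq_iff] at this
    subst hd
    rw [inv_one, one_mul] at hd3
    have hn1 : n⁻¹ ≠ 1 := fun e => by rw [inv_eq_one.1 e, orderOf_one] at hn4; omega
    have hcp : c • p = p := honly _ (inv_mem hn) hn1 _ (smul_mem_ovoid c hp) (by
      have := hfix _ hd3
      rwa [mul_smul, mul_smul, inv_smul_eq_iff] at this)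
    have hcp' : c⁻¹ • p = p := by rw [inv_smul_eq_iff, hcp]
    have hxp : x • p = p := by
      have hwp : (n * n * x) • p = p := by
        rw [← hc, mul_smul, mul_smul, mul_smul, hcp', hfix n hn, hfix n hn, hcp]
      rw [mul_smul] at hwp
      have hnn : (n * n) • p = p := by rw [mul_smul, hfix n hn, hfix n hn]
      exact MulAction.injective (n * n) (hwp.trans hnn.symm)
    have hx1 : x = 1 := by
      by_contra hne
      exact ((torus hF hm hg).2 x hxX hne).1 p hp hxp
    rw [hx, inv_mul_eq_one] at hx1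
    refine hkp (honly n hn (fun e => by rw [e, orderOf_one] at hn4; omega) _
      (smul_mem_ovoid k hp) ?_)
    rw [← mul_smul, show n * k = k * n by
      calc n * k = k * n * k⁻¹ * k := by rw [← hx1]
        _ = k * n := by group, mul_smul, hfix n hn]

/-- A subgroup of the normalizer of the split torus meeting the torus. -/
theorem not_binary_normalizer_T (hm : 1 ≤ m) {H : Subgroup G}
    (hH : H ≤ Subgroup.normalizer ((THom hF).range : Set G)) {k : Fˣ}
    (hk : k ≠ 1) (hkH : T hF k ∈ H) : ¬ IsBinary H := by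
  obtain ⟨c, hc, heq, -⟩ := exists_third hF hk 1
  rw [mul_one] at heq
  have key : ∀ (w : F) (l : Fˣ),
      (U hF 0 w)⁻¹ * (U hF 0 w * T hF l * U hF 0 w) * U hF 0 w = T hF l := fun w l => by
    rw [show (U hF 0 w)⁻¹ * (U hF 0 w * T hF l * U hF 0 w) * U hF 0 w
      = T hF l * (U hF 0 w * U hF 0 w) by group, U_zero_mul, add_self hF, U_zero, mul_one]
  have hpair : ∀ x ∈ H, (x • ∞' = ∞' ∧ x • pt m (0 : F) 0 = pt m 0 0) ∨
      (x • ∞' = pt m 0 0 ∧ x • pt m (0 : F) 0 = ∞') := by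
    intro x hx
    obtain ⟨k', e⟩ := (Subgroup.mem_normalizer_iff.1 (hH hx) _).1 (⟨k, rfl⟩ : T hF k ∈ (THom hF).range)
    rcases swap_of_conj_T hF hm (k' := k') hk e.symm with ⟨l, rfl⟩ | ⟨l, rfl⟩
    · exact Or.inl ⟨T_smul_inf hF l, T_smul_zero hF l⟩
    · exact Or.inr ⟨by rw [mul_smul, T_smul_inf, W_smul_inf],
        by rw [mul_smul, T_smul_zero, W_smul_zero]⟩
  refine not_binary_of_triple (g₁ := 1) (g₂ := U hF 0 1) (g₃ := U hF 0 c)
    (s := T hF k) (t := U hF 0 1 * T hF k⁻¹ * U hF 0 1) ?_ ?_ ?_ ?_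
  · simpa using hkH
  · rw [key, T_inv]; exact inv_mem hkH
  · rw [heq, key, T_mul, T_inv]; exact mul_mem (inv_mem hkH) (inv_mem hkH)
  · intro d hd1 hd2 hd3
    rw [inv_one, one_mul, mul_one] at hd1
    rw [U_zero_inv] at hd2 hd3
    have hinf : ∀ (w : F) (x : G), (U hF 0 w * x * U hF 0 w) • ∞' = U hF 0 w • (x • ∞') :=
      fun w x => by rw [mul_smul, mul_smul, U_smul_inf]
    have hzero : ∀ (w : F) (x : G), x • pt m (0 : F) w = pt m 0 w → x • ∞' = ∞' →
        (U hF 0 w * x * U hF 0 w) • pt m (0 : F) 0 = pt m 0 0 := fun w x h _ => by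
      rw [mul_smul, mul_smul, U_smul_zero, h, U_smul_pt, sig_zero, zero_mul, add_zero, add_zero,
        add_self hF]
    have hd : d = 1 := by
      rcases hpair d hd1 with ⟨h1, h0⟩ | ⟨h1, h0⟩
      · rcases hpair _ hd2 with ⟨h1', h0'⟩ | ⟨h1', h0'⟩
        · obtain ⟨l, rfl⟩ := eq_T_of_fix hF hm d h1 h0
          rw [mul_smul, mul_smul, U_smul_zero, T_smul_pt, U_smul_pt] at h0'
          have h := (pt_inj h0').2
          rw [sig_zero, zero_mul, add_zero, mul_one, ← mu_val] at h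
          have h' : (1 : F) + (mu m l : Fˣ) = 0 := by linear_combination h
          rw [show l = 1 by by_contra hne; exact one_add_mu_ne hF hne h', T_one]
        · rw [hinf, h1, U_smul_inf] at h1'
          exact absurd h1'.symm (pt_ne_inf _ _)
      · exfalso
        rcases hpair _ hd2 with ⟨h1', -⟩ | ⟨h1', -⟩
        · rw [hinf, h1, U_smul_zero] at h1'
          exact pt_ne_inf _ _ h1'
        · rw [hinf, h1, U_smul_zero] at h1'
          exact one_ne_zero (pt_inj h1').2
    subst hd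
    rw [inv_one, one_mul] at hd3
    rcases hpair _ hd3 with ⟨-, h0⟩ | ⟨h1, -⟩
    · rw [mul_smul, mul_smul, U_smul_zero, T_smul_pt, U_smul_pt] at h0
      have h := (pt_inj h0).2
      rw [sig_zero, zero_mul, add_zero, ← mu_val] at h
      have h' : c * (1 + (mu m k : Fˣ)) = 0 := by linear_combination h
      rcases mul_eq_zero.1 h' with h' | h'
      · exact hc h'
      · exact one_add_mu_ne hF hk h'
    · rw [hinf, T_smul_inf, U_smul_inf] at h1
      exact pt_ne_inf _ _ h1.symm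

end Cfsg.Agent.LocalEven64.SzBinary
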